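import Cfsg.Agent.Lib.Sporadic.ONSubData.janRowData
import Cfsg.Agent.Lib.Sporadic.ONData.ONFast

/-!
# Checks of the product row

Machine-generated data and the kernel checks on it.
-/

set_option maxRecDepth 100000
set_option Elab.async false

namespace CfsgLib.Sporadic.CosetCert.ONSubData

theorem janrow_15 : CosetCert.PTab.eqL [ONData.fast3, ONData.fast4, ONData.fast5, ONData.fast1, ONData.fast6, ONData.fast0, ONData.fast4, ONData.fast5, ONData.fast6, ONData.fast5, ONData.fast3, ONData.fast2, ONData.fast5, ONData.fast4, ONData.fast1, ONData.fast6, ONData.fast0, ONData.fast5, ONData.fast4, ONData.fast3] janrowY 60000 4000 = true := by decide +kernel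
theorem janrow_16 : CosetCert.PTab.eqL [ONData.fast3, ONData.fast4, ONData.fast5, ONData.fast1, ONData.fast6, ONData.fast0, ONData.fast4, ONData.fast5, ONData.fast6, ONData.fast5, ONData.fast3, ONData.fast2, ONData.fast5, ONData.fast4, ONData.fast1, ONData.fast6, ONData.fast0, ONData.fast5, ONData.fast4, ONData.fast3] janrowY 64000 4000 = true := by decide +kernel
theorem janrow_17 : CosetCert.PTab.eqL [ONData.fast3, ONData.fast4, ONData.fast5, ONData.fast1, ONData.fast6, ONData.fast0, ONData.fast4, ONData.fast5, ONData.fast6, ONData.fast5, ONData.fast3, ONData.fast2, ONData.fast5, ONData.fast4, ONData.fast1, ONData.fast6, ONData.fast0, ONData.fast5, ONData.fast4, ONData.fast3] janrowY 68000 4000 = true := by decide +kernel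
theorem janrow_18 : CosetCert.PTab.eqL [ONData.fast3, ONData.fast4, ONData.fast5, ONData.fast1, ONData.fast6, ONData.fast0, ONData.fast4, ONData.fast5, ONData.fast6, ONData.fast5, ONData.fast3, ONData.fast2, ONData.fast5, ONData.fast4, ONData.fast1, ONData.fast6, ONData.fast0, ONData.fast5, ONData.fast4, ONData.fast3] janrowY 72000 4000 = true := by decide +kernel
theorem janrow_19 : CosetCert.PTab.eqL [ONData.fast3, ONData.fast4, ONData.fast5, ONData.fast1, ONData.fast6, ONData.fast0, ONData.fast4, ONData.fast5, ONData.fast6, ONData.fast5, ONData.fast3, ONData.fast2, ONData.fast5, ONData.fast4, ONData.fast1, ONData.fast6, ONData.fast0, ONData.fast5, ONData.fast4, ONData.fast3] janrowY 76000 4000 = true := by decide +kernel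
theorem janrow_20 : CosetCert.PTab.eqL [ONData.fast3, ONData.fast4, ONData.fast5, ONData.fast1, ONData.fast6, ONData.fast0, ONData.fast4, ONData.fast5, ONData.fast6, ONData.fast5, ONData.fast3, ONData.fast2, ONData.fast5, ONData.fast4, ONData.fast1, ONData.fast6, ONData.fast0, ONData.fast5, ONData.fast4, ONData.fast3] janrowY 80000 4000 = true := by decide +kernel
theorem janrow_21 : CosetCert.PTab.eqL [ONData.fast3, ONData.fast4, ONData.fast5, ONData.fast1, ONData.fast6, ONData.fast0, ONData.fast4, ONData.fast5, ONData.fast6, ONData.fast5, ONData.fast3, ONData.fast2, ONData.fast5, ONData.fast4, ONData.fast1, ONData.fast6, ONData.fast0, ONData.fast5, ONData.fast4, ONData.fast3] janrowY 84000 4000 = true := by decide +kernel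
theorem janrow_22 : CosetCert.PTab.eqL [ONData.fast3, ONData.fast4, ONData.fast5, ONData.fast1, ONData.fast6, ONData.fast0, ONData.fast4, ONData.fast5, ONData.fast6, ONData.fast5, ONData.fast3, ONData.fast2, ONData.fast5, ONData.fast4, ONData.fast1, ONData.fast6, ONData.fast0, ONData.fast5, ONData.fast4, ONData.fast3] janrowY 88000 4000 = true := by decide +kernel
theorem janrow_23 : CosetCert.PTab.eqL [ONData.fast3, ONData.fast4, ONData.fast5, ONData.fast1, ONData.fast6, ONData.fast0, ONData.fast4, ONData.fast5, ONData.fast6, ONData.fast5, ONData.fast3, ONData.fast2, ONData.fast5, ONData.fast4, ONData.fast1, ONData.fast6, ONData.fast0, ONData.fast5, ONData.fast4, ONData.fast3] janrowY 92000 4000 = true := by decide +kernel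
theorem janrow_24 : CosetCert.PTab.eqL [ONData.fast3, ONData.fast4, ONData.fast5, ONData.fast1, ONData.fast6, ONData.fast0, ONData.fast4, ONData.fast5, ONData.fast6, ONData.fast5, ONData.fast3, ONData.fast2, ONData.fast5, ONData.fast4, ONData.fast1, ONData.fast6, ONData.fast0, ONData.fast5, ONData.fast4, ONData.fast3] janrowY 96000 4000 = true := by decide +kernel
theorem janrow_25 : CosetCert.PTab.eqL [ONData.fast3, ONData.fast4, ONData.fast5, ONData.fast1, ONData.fast6, ONData.fast0, ONData.fast4, ONData.fast5, ONData.fast6, ONData.fast5, ONData.fast3, ONData.fast2, ONData.fast5, ONData.fast4, ONData.fast1, ONData.fast6, ONData.fast0, ONData.fast5, ONData.fast4, ONData.fast3] janrowY 100000 4000 = true := by decide +kernel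
theorem janrow_26 : CosetCert.PTab.eqL [ONData.fast3, ONData.fast4, ONData.fast5, ONData.fast1, ONData.fast6, ONData.fast0, ONData.fast4, ONData.fast5, ONData.fast6, ONData.fast5, ONData.fast3, ONData.fast2, ONData.fast5, ONData.fast4, ONData.fast1, ONData.fast6, ONData.fast0, ONData.fast5, ONData.fast4, ONData.fast3] janrowY 104000 4000 = true := by decide +kernel
theorem janrow_27 : CosetCert.PTab.eqL [ONData.fast3, ONData.fast4, ONData.fast5, ONData.fast1, ONData.fast6, ONData.fast0, ONData.fast4, ONData.fast5, ONData.fast6, ONData.fast5, ONData.fast3, ONData.fast2, ONData.fast5, ONData.fast4, ONData.fast1, ONData.fast6, ONData.fast0, ONData.fast5, ONData.fast4, ONData.fast3] janrowY 108000 4000 = true := by decide +kernel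
theorem janrow_28 : CosetCert.PTab.eqL [ONData.fast3, ONData.fast4, ONData.fast5, ONData.fast1, ONData.fast6, ONData.fast0, ONData.fast4, ONData.fast5, ONData.fast6, ONData.fast5, ONData.fast3, ONData.fast2, ONData.fast5, ONData.fast4, ONData.fast1, ONData.fast6, ONData.fast0, ONData.fast5, ONData.fast4, ONData.fast3] janrowY 112000 4000 = true := by decide +kernel
theorem janrow_29 : CosetCert.PTab.eqL [ONData.fast3, ONData.fast4, ONData.fast5, ONData.fast1, ONData.fast6, ONData.fast0, ONData.fast4, ONData.fast5, ONData.fast6, ONData.fast5, ONData.fast3, ONData.fast2, ONData.fast5, ONData.fast4, ONData.fast1, ONData.fast6, ONData.fast0, ONData.fast5, ONData.fast4, ONData.fast3] janrowY 116000 4000 = true := by decide +kernel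
theorem janrow_30 : CosetCert.PTab.eqL [ONData.fast3, ONData.fast4, ONData.fast5, ONData.fast1, ONData.fast6, ONData.fast0, ONData.fast4, ONData.fast5, ONData.fast6, ONData.fast5, ONData.fast3, ONData.fast2, ONData.fast5, ONData.fast4, ONData.fast1, ONData.fast6, ONData.fast0, ONData.fast5, ONData.fast4, ONData.fast3] janrowY 120000 2760 = true := by decide +kernel

end CfsgLib.Sporadic.CosetCert.ONSubData
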