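import Cfsg.Agent.Lib.Sporadic.ONSubData.janRow0
import Cfsg.Agent.Lib.Sporadic.ONSubData.janRow1
import Cfsg.Agent.Lib.Sporadic.ONData.ONFastChecks

/-!
# The product row

Machine-generated data and the kernel checks on it.
-/

set_option maxRecDepth 100000
set_option Elab.async false

namespace CfsgLib.Sporadic.CosetCert.ONSubData

theorem janrow_ok : ∀ u < ONData.table.N,
    ONData.table.imgW [3, 4, 5, 1, 6, 0, 4, 5, 6, 5, 3, 2, 5, 4, 1, 6, 0, 5, 4, 3] u = CosetCert.PTab.runL [janrowY] u := by
  intro u hu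
  have hu' : u < 122760 := hu
  rw [(ONData.imgW_fast [3, 4, 5, 1, 6, 0, 4, 5, 6, 5, 3, 2, 5, 4, 1, 6, 0, 5, 4, 3] (by decide) u hu).1, CosetCert.PTab.runL_cons]
  exact (CosetCert.range_split (CosetCert.range_split (CosetCert.range_split (CosetCert.range_split (CosetCert.PTab.eqL_spec janrow_0) (CosetCert.range_split (CosetCert.PTab.eqL_spec janrow_1) (CosetCert.PTab.eqL_spec janrow_2))) (CosetCert.range_split (CosetCert.range_split (CosetCert.PTab.eqL_spec janrow_3) (CosetCert.PTab.eqL_spec janrow_4)) (CosetCert.range_split (CosetCert.PTab.eqL_spec janrow_5) (CosetCert.PTab.eqL_spec janrow_6)))) (CosetCert.range_split (CosetCert.range_split (CosetCert.range_split (CosetCert.PTab.eqL_spec janrow_7) (CosetCert.PTab.eqL_spec janrow_8)) (CosetCert.range_split (CosetCert.PTab.eqL_spec janrow_9) (CosetCert.PTab.eqL_spec janrow_10))) (CosetCert.range_split (CosetCert.range_split (CosetCert.PTab.eqL_spec janrow_11) (CosetCert.PTab.eqL_spec janrow_12)) (CosetCert.range_split (CosetCert.PTab.eqL_spec janrow_13) (CosetCert.PTab.eqL_spec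 janrow_14))))) (CosetCert.range_split (CosetCert.range_split (CosetCert.range_split (CosetCert.range_split (CosetCert.PTab.eqL_spec janrow_15) (CosetCert.PTab.eqL_spec janrow_16)) (CosetCert.range_split (CosetCert.PTab.eqL_spec janrow_17) (CosetCert.PTab.eqL_spec janrow_18))) (CosetCert.range_split (CosetCert.range_split (CosetCert.PTab.eqL_spec janrow_19) (CosetCert.PTab.eqL_spec janrow_20)) (CosetCert.range_split (CosetCert.PTab.eqL_spec janrow_21) (CosetCert.PTab.eqL_spec janrow_22)))) (CosetCert.range_split (CosetCert.range_split (CosetCert.range_split (CosetCert.PTab.eqL_spec janrow_23) (CosetCert.PTab.eqL_spec janrow_24)) (CosetCert.range_split (CosetCert.PTab.eqL_spec janrow_25) (CosetCert.PTab.eqL_spec janrow_26))) (CosetCert.range_split (CosetCert.range_split (CosetCert.PTab.eqL_spec janrow_27) (CosetCert.PTab.eqL_spec janrow_28)) (CosetCert.range_split (CosetCert.PTab.eqL_spec janrow_29) (CosetCert.PTab.eqL_spec janrow_30)))))) u (Nat.zero_le _) hu'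

end CfsgLib.Sporadic.CosetCert.ONSubData
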