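import Cfsg.Agent.Lib.Sporadic.ONSubData.janCoords
import Cfsg.Agent.Lib.Sporadic.ONSubData.janMaps
import Cfsg.Agent.Lib.Sporadic.ONTriples

/-!
# Closure of the nodes of jan

Machine-generated data and the kernel checks on it.
-/

set_option maxRecDepth 100000
set_option Elab.async false

namespace CfsgLib.Sporadic.CosetCert.ONSubData

theorem janstepX2_0 : CosetCert.ONP.stepT [ONData.fast2] janc2 jannX 175560 0 8000 = true := by decide +kernel
theorem janstepX2_1 : CosetCert.ONP.stepT [ONData.fast2] janc2 jannX 175560 8000 8000 = true := by decide +kernel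
theorem janstepX2_2 : CosetCert.ONP.stepT [ONData.fast2] janc2 jannX 175560 16000 8000 = true := by decide +kernel
theorem janstepX2_3 : CosetCert.ONP.stepT [ONData.fast2] janc2 jannX 175560 24000 8000 = true := by decide +kernel
theorem janstepX2_4 : CosetCert.ONP.stepT [ONData.fast2] janc2 jannX 175560 32000 8000 = true := by decide +kernel
theorem janstepX2_5 : CosetCert.ONP.stepT [ONData.fast2] janc2 jannX 175560 40000 8000 = true := by decide +kernel
theorem janstepX2_6 : CosetCert.ONP.stepT [ONData.fast2] janc2 jannX 175560 48000 8000 = true := by decide +kernel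
theorem janstepX2_7 : CosetCert.ONP.stepT [ONData.fast2] janc2 jannX 175560 56000 8000 = true := by decide +kernel
theorem janstepX2_8 : CosetCert.ONP.stepT [ONData.fast2] janc2 jannX 175560 64000 8000 = true := by decide +kernel
theorem janstepX2_9 : CosetCert.ONP.stepT [ONData.fast2] janc2 jannX 175560 72000 8000 = true := by decide +kernel
theorem janstepX2_10 : CosetCert.ONP.stepT [ONData.fast2] janc2 jannX 175560 80000 8000 = true := by decide +kernel
theorem janstepX2_11 : CosetCert.ONP.stepT [ONData.fast2] janc2 jannX 175560 88000 8000 = true := by decide +kernel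
theorem janstepX2_12 : CosetCert.ONP.stepT [ONData.fast2] janc2 jannX 175560 96000 8000 = true := by decide +kernel
theorem janstepX2_13 : CosetCert.ONP.stepT [ONData.fast2] janc2 jannX 175560 104000 8000 = true := by decide +kernel
theorem janstepX2_14 : CosetCert.ONP.stepT [ONData.fast2] janc2 jannX 175560 112000 8000 = true := by decide +kernel
theorem janstepX2_15 : CosetCert.ONP.stepT [ONData.fast2] janc2 jannX 175560 120000 8000 = true := by decide +kernel
theorem janstepX2_16 : CosetCert.ONP.stepT [ONData.fast2] janc2 jannX 175560 128000 8000 = true := by decide +kernel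
theorem janstepX2_17 : CosetCert.ONP.stepT [ONData.fast2] janc2 jannX 175560 136000 8000 = true := by decide +kernel
theorem janstepX2_18 : CosetCert.ONP.stepT [ONData.fast2] janc2 jannX 175560 144000 8000 = true := by decide +kernel
theorem janstepX2_19 : CosetCert.ONP.stepT [ONData.fast2] janc2 jannX 175560 152000 8000 = true := by decide +kernel
theorem janstepX2_20 : CosetCert.ONP.stepT [ONData.fast2] janc2 jannX 175560 160000 8000 = true := by decide +kernel
theorem janstepX2_21 : CosetCert.ONP.stepT [ONData.fast2] janc2 jannX 175560 168000 7560 = true := by decide +kernel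

end CfsgLib.Sporadic.CosetCert.ONSubData
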