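import Cfsg.Agent.Lib.Sporadic.ONSubData.janStepX0
import Cfsg.Agent.Lib.Sporadic.ONSubData.janStepY0
import Cfsg.Agent.Lib.Sporadic.ONSubData.janStepX1
import Cfsg.Agent.Lib.Sporadic.ONSubData.janStepY1
import Cfsg.Agent.Lib.Sporadic.ONSubData.janStepX2
import Cfsg.Agent.Lib.Sporadic.ONSubData.janStepY2
import Cfsg.Agent.Lib.Sporadic.ONSubData.janCoords
import Cfsg.Agent.Lib.Sporadic.ONSubData.janMaps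
import Cfsg.Agent.Lib.Sporadic.ONData.ONFastChecks
import Cfsg.Agent.Lib.Sporadic.ONSubData.janRowOK

/-!
# The subgroup jan

Machine-generated data and the kernel checks on it.
-/

set_option maxRecDepth 100000
set_option Elab.async false

namespace CfsgLib.Sporadic.CosetCert.ONSubData

/-- The first generator of jan. -/
def janX : List ℕ := [2]

/-- The second generator of jan. -/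
def janY : List ℕ := [3, 4, 5, 1, 6, 0, 4, 5, 6, 5, 3, 2, 5, 4, 1, 6, 0, 5, 4, 3]

/-- The coordinates of the nodes of jan. -/
noncomputable def janc (i : Fin 3) : ℕ → ℕ :=
  match i with
  | 0 => janc0
  | 1 => janc1
  | 2 => janc2

theorem janX_lt : ∀ x ∈ janX, x < ONData.table.nl := by decide +kernel

theorem janY_lt : ∀ x ∈ janY, x < ONData.table.nl := by decide +kernel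

theorem janbase : ∀ i, janc i 0 = CosetCert.ONP.bases.getD i 0 := by decide +kernel

theorem janstepX : ∀ i, ∀ n < 175560, ONData.table.imgW janX (janc i n) = janc i (jannX n) ∧
    janc i n < ONData.table.N ∧ jannX n < 175560 := by
  intro i n hn
  have hstep : CosetCert.PTab.runL [ONData.fast2] (janc i n) = janc i (jannX n) ∧
      janc i n < 122760 ∧ jannX n < 175560 :=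
    match i with
    | 0 => (CosetCert.range_split (CosetCert.range_split (CosetCert.range_split (CosetCert.range_split (CosetCert.ONP.stepT_spec janstepX0_0) (CosetCert.ONP.stepT_spec janstepX0_1)) (CosetCert.range_split (CosetCert.ONP.stepT_spec janstepX0_2) (CosetCert.range_split (CosetCert.ONP.stepT_spec janstepX0_3) (CosetCert.ONP.stepT_spec janstepX0_4)))) (CosetCert.range_split (CosetCert.range_split (CosetCert.ONP.stepT_spec janstepX0_5) (CosetCert.range_split (CosetCert.ONP.stepT_spec janstepX0_6) (CosetCert.ONP.stepT_spec janstepX0_7))) (CosetCert.range_split (CosetCert.ONP.stepT_spec janstepX0_8) (CosetCert.range_split (CosetCert.ONP.stepT_spec janstepX0_9) (CosetCert.ONP.stepT_spec janstepX0_10))))) (CosetCert.range_split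 (CosetCert.range_split (CosetCert.range_split (CosetCert.ONP.stepT_spec janstepX0_11) (CosetCert.ONP.stepT_spec janstepX0_12)) (CosetCert.range_split (CosetCert.ONP.stepT_spec janstepX0_13) (CosetCert.range_split (CosetCert.ONP.stepT_spec janstepX0_14) (CosetCert.ONP.stepT_spec janstepX0_15)))) (CosetCert.range_split (CosetCert.range_split (CosetCert.ONP.stepT_spec janstepX0_16) (CosetCert.range_split (CosetCert.ONP.stepT_spec janstepX0_17) (CosetCert.ONP.stepT_spec janstepX0_18))) (CosetCert.range_split (CosetCert.ONP.stepT_spec janstepX0_19) (CosetCert.range_split (CosetCert.ONP.stepT_spec janstepX0_20) (CosetCert.ONP.stepT_spec janstepX0_21)))))) n (Nat.zero_le _) hn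
    | 1 => (CosetCert.range_split (CosetCert.range_split (CosetCert.range_split (CosetCert.range_split (CosetCert.ONP.stepT_spec janstepX1_0) (CosetCert.ONP.stepT_spec janstepX1_1)) (CosetCert.range_split (CosetCert.ONP.stepT_spec janstepX1_2) (CosetCert.range_split (CosetCert.ONP.stepT_spec janstepX1_3) (CosetCert.ONP.stepT_spec janstepX1_4)))) (CosetCert.range_split (CosetCert.range_split (CosetCert.ONP.stepT_spec janstepX1_5) (CosetCert.range_split (CosetCert.ONP.stepT_spec janstepX1_6) (CosetCert.ONP.stepT_spec janstepX1_7))) (CosetCert.range_split (CosetCert.ONP.stepT_spec janstepX1_8) (CosetCert.range_split (CosetCert.ONP.stepT_spec janstepX1_9) (CosetCert.ONP.stepT_spec janstepX1_10))))) (CosetCert.range_split (CosetCert.range_split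 (CosetCert.range_split (CosetCert.ONP.stepT_spec janstepX1_11) (CosetCert.ONP.stepT_spec janstepX1_12)) (CosetCert.range_split (CosetCert.ONP.stepT_spec janstepX1_13) (CosetCert.range_split (CosetCert.ONP.stepT_spec janstepX1_14) (CosetCert.ONP.stepT_spec janstepX1_15)))) (CosetCert.range_split (CosetCert.range_split (CosetCert.ONP.stepT_spec janstepX1_16) (CosetCert.range_split (CosetCert.ONP.stepT_spec janstepX1_17) (CosetCert.ONP.stepT_spec janstepX1_18))) (CosetCert.range_split (CosetCert.ONP.stepT_spec janstepX1_19) (CosetCert.range_split (CosetCert.ONP.stepT_spec janstepX1_20) (CosetCert.ONP.stepT_spec janstepX1_21)))))) n (Nat.zero_le _) hn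
    | 2 => (CosetCert.range_split (CosetCert.range_split (CosetCert.range_split (CosetCert.range_split (CosetCert.ONP.stepT_spec janstepX2_0) (CosetCert.ONP.stepT_spec janstepX2_1)) (CosetCert.range_split (CosetCert.ONP.stepT_spec janstepX2_2) (CosetCert.range_split (CosetCert.ONP.stepT_spec janstepX2_3) (CosetCert.ONP.stepT_spec janstepX2_4)))) (CosetCert.range_split (CosetCert.range_split (CosetCert.ONP.stepT_spec janstepX2_5) (CosetCert.range_split (CosetCert.ONP.stepT_spec janstepX2_6) (CosetCert.ONP.stepT_spec janstepX2_7))) (CosetCert.range_split (CosetCert.ONP.stepT_spec janstepX2_8) (CosetCert.range_split (CosetCert.ONP.stepT_spec janstepX2_9) (CosetCert.ONP.stepT_spec janstepX2_10))))) (CosetCert.range_split (CosetCert.range_split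 (CosetCert.range_split (CosetCert.ONP.stepT_spec janstepX2_11) (CosetCert.ONP.stepT_spec janstepX2_12)) (CosetCert.range_split (CosetCert.ONP.stepT_spec janstepX2_13) (CosetCert.range_split (CosetCert.ONP.stepT_spec janstepX2_14) (CosetCert.ONP.stepT_spec janstepX2_15)))) (CosetCert.range_split (CosetCert.range_split (CosetCert.ONP.stepT_spec janstepX2_16) (CosetCert.range_split (CosetCert.ONP.stepT_spec janstepX2_17) (CosetCert.ONP.stepT_spec janstepX2_18))) (CosetCert.range_split (CosetCert.ONP.stepT_spec janstepX2_19) (CosetCert.range_split (CosetCert.ONP.stepT_spec janstepX2_20) (CosetCert.ONP.stepT_spec janstepX2_21)))))) n (Nat.zero_le _) hn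
  have hlt : janc i n < ONData.table.N := hstep.2.1
  exact ⟨((ONData.imgW_fast [2] (by decide) _ hlt).1).trans hstep.1, hlt, hstep.2.2⟩

theorem janstepY : ∀ i, ∀ n < 175560, ONData.table.imgW janY (janc i n) = janc i (jannY n) ∧
    janc i n < ONData.table.N ∧ jannY n < 175560 := by
  intro i n hn
  have hstep : CosetCert.PTab.runL [janrowY] (janc i n) = janc i (jannY n) ∧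
      janc i n < 122760 ∧ jannY n < 175560 :=
    match i with
    | 0 => (CosetCert.range_split (CosetCert.range_split (CosetCert.range_split (CosetCert.range_split (CosetCert.ONP.stepT_spec janstepY0_0) (CosetCert.ONP.stepT_spec janstepY0_1)) (CosetCert.range_split (CosetCert.ONP.stepT_spec janstepY0_2) (CosetCert.range_split (CosetCert.ONP.stepT_spec janstepY0_3) (CosetCert.ONP.stepT_spec janstepY0_4)))) (CosetCert.range_split (CosetCert.range_split (CosetCert.ONP.stepT_spec janstepY0_5) (CosetCert.range_split (CosetCert.ONP.stepT_spec janstepY0_6) (CosetCert.ONP.stepT_spec janstepY0_7))) (CosetCert.range_split (CosetCert.ONP.stepT_spec janstepY0_8) (CosetCert.range_split (CosetCert.ONP.stepT_spec janstepY0_9) (CosetCert.ONP.stepT_spec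 janstepY0_10))))) (CosetCert.range_split (CosetCert.range_split (CosetCert.range_split (CosetCert.ONP.stepT_spec janstepY0_11) (CosetCert.ONP.stepT_spec janstepY0_12)) (CosetCert.range_split (CosetCert.ONP.stepT_spec janstepY0_13) (CosetCert.range_split (CosetCert.ONP.stepT_spec janstepY0_14) (CosetCert.ONP.stepT_spec janstepY0_15)))) (CosetCert.range_split (CosetCert.range_split (CosetCert.ONP.stepT_spec janstepY0_16) (CosetCert.range_split (CosetCert.ONP.stepT_spec janstepY0_17) (CosetCert.ONP.stepT_spec janstepY0_18))) (CosetCert.range_split (CosetCert.ONP.stepT_spec janstepY0_19) (CosetCert.range_split (CosetCert.ONP.stepT_spec janstepY0_20) (CosetCert.ONP.stepT_spec janstepY0_21)))))) n (Nat.zero_le _) hn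
    | 1 => (CosetCert.range_split (CosetCert.range_split (CosetCert.range_split (CosetCert.range_split (CosetCert.ONP.stepT_spec janstepY1_0) (CosetCert.ONP.stepT_spec janstepY1_1)) (CosetCert.range_split (CosetCert.ONP.stepT_spec janstepY1_2) (CosetCert.range_split (CosetCert.ONP.stepT_spec janstepY1_3) (CosetCert.ONP.stepT_spec janstepY1_4)))) (CosetCert.range_split (CosetCert.range_split (CosetCert.ONP.stepT_spec janstepY1_5) (CosetCert.range_split (CosetCert.ONP.stepT_spec janstepY1_6) (CosetCert.ONP.stepT_spec janstepY1_7))) (CosetCert.range_split (CosetCert.ONP.stepT_spec janstepY1_8) (CosetCert.range_split (CosetCert.ONP.stepT_spec janstepY1_9) (CosetCert.ONP.stepT_spec janstepY1_10))))) (CosetCert.range_split (CosetCert.range_split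 (CosetCert.range_split (CosetCert.ONP.stepT_spec janstepY1_11) (CosetCert.ONP.stepT_spec janstepY1_12)) (CosetCert.range_split (CosetCert.ONP.stepT_spec janstepY1_13) (CosetCert.range_split (CosetCert.ONP.stepT_spec janstepY1_14) (CosetCert.ONP.stepT_spec janstepY1_15)))) (CosetCert.range_split (CosetCert.range_split (CosetCert.ONP.stepT_spec janstepY1_16) (CosetCert.range_split (CosetCert.ONP.stepT_spec janstepY1_17) (CosetCert.ONP.stepT_spec janstepY1_18))) (CosetCert.range_split (CosetCert.ONP.stepT_spec janstepY1_19) (CosetCert.range_split (CosetCert.ONP.stepT_spec janstepY1_20) (CosetCert.ONP.stepT_spec janstepY1_21)))))) n (Nat.zero_le _) hn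
    | 2 => (CosetCert.range_split (CosetCert.range_split (CosetCert.range_split (CosetCert.range_split (CosetCert.ONP.stepT_spec janstepY2_0) (CosetCert.ONP.stepT_spec janstepY2_1)) (CosetCert.range_split (CosetCert.ONP.stepT_spec janstepY2_2) (CosetCert.range_split (CosetCert.ONP.stepT_spec janstepY2_3) (CosetCert.ONP.stepT_spec janstepY2_4)))) (CosetCert.range_split (CosetCert.range_split (CosetCert.ONP.stepT_spec janstepY2_5) (CosetCert.range_split (CosetCert.ONP.stepT_spec janstepY2_6) (CosetCert.ONP.stepT_spec janstepY2_7))) (CosetCert.range_split (CosetCert.ONP.stepT_spec janstepY2_8) (CosetCert.range_split (CosetCert.ONP.stepT_spec janstepY2_9) (CosetCert.ONP.stepT_spec janstepY2_10))))) (CosetCert.range_split (CosetCert.range_split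 (CosetCert.range_split (CosetCert.ONP.stepT_spec janstepY2_11) (CosetCert.ONP.stepT_spec janstepY2_12)) (CosetCert.range_split (CosetCert.ONP.stepT_spec janstepY2_13) (CosetCert.range_split (CosetCert.ONP.stepT_spec janstepY2_14) (CosetCert.ONP.stepT_spec janstepY2_15)))) (CosetCert.range_split (CosetCert.range_split (CosetCert.ONP.stepT_spec janstepY2_16) (CosetCert.range_split (CosetCert.ONP.stepT_spec janstepY2_17) (CosetCert.ONP.stepT_spec janstepY2_18))) (CosetCert.range_split (CosetCert.ONP.stepT_spec janstepY2_19) (CosetCert.range_split (CosetCert.ONP.stepT_spec janstepY2_20) (CosetCert.ONP.stepT_spec janstepY2_21)))))) n (Nat.zero_le _) hn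
  have hlt : janc i n < ONData.table.N := hstep.2.1
  exact ⟨(janrow_ok _ hlt).trans hstep.1, hlt, hstep.2.2⟩

/-- The key of a word in the generators of jan. -/
noncomputable def jankey (w : List ℕ) : List ℕ :=
  [janc0 (CosetCert.ONP.node jannX jannY w 0), janc1 (CosetCert.ONP.node jannX jannY w 0),
    janc2 (CosetCert.ONP.node jannX jannY w 0)]

theorem jankey_eq (w : List ℕ) :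
    CosetCert.ONP.key (CosetCert.ONP.spell janX janY w) = jankey w :=
  CosetCert.ONP.key_spell janc jannX jannY (by norm_num) janbase janstepX janstepY w

theorem jancard_le :
    Nat.card (CosetCert.ONP.gen2 janX janY) ≤ 175560 :=
  CosetCert.ONP.card_gen2_le janX_lt janY_lt janc jannX jannY (b := 0) (by norm_num)
    janbase janstepX janstepY

/-- A Sylow 2-subgroup of jan. -/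
def jansyl2 : List (List ℕ) :=
  [[],
   [0, 1, 1, 0, 1, 0, 1, 1, 0, 1, 1, 0, 1, 0, 1, 1, 0, 1, 0, 1, 0, 1, 1, 0, 1, 1, 0, 1, 0, 1, 0, 1, 1, 0, 1, 0, 1, 0, 1, 1, 0, 1, 0, 1, 1, 0, 1, 0, 1],
   [1, 0, 1, 1, 0, 1, 0, 1, 1, 0, 1, 0, 1, 0, 1, 1, 0, 1, 0, 1, 0, 1, 1, 0, 1, 1, 0, 1, 0, 1, 0, 1, 1, 0, 1, 0, 1, 0, 1, 1, 0, 1, 1, 0, 1, 0, 1, 1],
   [1, 0, 1, 1, 0, 1, 0, 1, 1, 0, 1, 1, 0, 1, 0, 1, 1, 0, 1, 0, 1, 0, 1, 1, 0, 1, 1, 0, 1, 0, 1, 1, 0, 1, 0, 1, 0, 1, 1, 0, 1, 0, 1, 1],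
   [0, 1, 0, 1, 1, 0, 1, 1, 0, 1, 0, 1, 1, 0, 1, 0, 1, 1, 0, 1, 1, 0, 1, 0, 1, 0, 1, 1, 0, 1, 0, 1, 1, 0, 1, 0, 1, 0, 1, 1, 0],
   [0, 1, 1, 0, 1, 0, 1, 1, 0, 1, 0, 1, 1, 0, 1, 0, 1, 1, 0, 1, 1, 0, 1, 0, 1, 1, 0, 1, 0, 1, 0, 1, 1, 0, 1, 0, 1, 1, 0, 1, 0, 1, 1, 0, 1, 0],
   [0, 1, 0, 1, 0, 1, 1, 0, 1, 0, 1, 0, 1, 1, 0, 1, 0, 1, 1, 0, 1, 1, 0, 1, 0, 1, 0, 1, 1, 0, 1, 0, 1, 0, 1],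
   [1, 0, 1, 1, 0, 1, 1, 0, 1, 0, 1, 1, 0, 1, 0, 1, 1, 0, 1, 1, 0, 1, 0, 1, 1, 0, 1, 0, 1, 1, 0, 1, 0, 1, 0, 1, 1, 0, 1, 0, 1, 1, 0, 1, 0, 1, 0, 1, 1]]

/-- Generators as products of conjugates of its elements. -/
def janfac2 : List (List (List ℕ × List ℕ × ℕ) × List (List ℕ × List ℕ × ℕ)) :=
  [([], []),
   ([([1, 1, 1, 1, 0, 1, 1, 0, 1, 1, 0, 1, 1, 1, 1, 0, 1, 1, 1, 1, 0, 1, 1, 0, 1, 1, 0, 1, 1, 1, 1, 0, 1, 1, 1, 1, 0, 1, 1, 0, 1, 1, 0], [0, 1, 0, 1, 0, 1, 1, 0, 1, 1, 0, 1, 0, 1, 0, 1, 1, 0, 1, 1, 0, 1, 0, 1, 0, 1, 1], 1)], [([0, 1, 1, 1, 1, 0, 1, 1, 0, 1, 1, 1, 1, 0, 1, 1, 1, 1, 0, 1, 1, 0, 1, 1, 1, 1], [1, 1, 0, 1, 0, 1, 1, 0, 1, 1, 0, 1, 0, 1, 1, 0], 1), ([1, 1, 1, 1, 0, 1, 1, 1, 1, 0, 1, 1, 0, 1, 1, 1, 1, 0, 1, 1, 1, 1,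 0, 1, 1, 0, 1, 1, 1, 1], [1, 1, 0, 1, 0, 1, 1, 0, 1, 1, 0, 1, 0, 1, 1, 0, 1, 1], 1)]),
   ([([1, 1, 1, 1, 0, 1, 1, 0, 1, 1, 0, 1, 1, 1, 1, 0, 1, 1, 0, 1, 1, 0, 1, 1, 1, 1, 0, 1, 1, 0, 1, 1, 1, 1, 0, 1, 1], [1, 0, 1, 1, 0, 1, 0, 1, 1, 0, 1, 0, 1, 0, 1, 1, 0, 1, 0, 1, 0, 1, 1], 1)], [([0, 1, 1, 1, 1, 0, 1, 1, 0, 1, 1, 0, 1, 1], [1, 0, 1, 0, 1, 0, 1, 1, 0], 1), ([1, 1, 1, 1, 0, 1, 1, 1, 1, 0, 1, 1, 0, 1, 1, 0, 1, 1], [1, 0, 1, 0, 1, 0, 1, 1, 0, 1, 1], 1)]),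
   ([([1, 1, 0, 1, 1, 0, 1, 1, 1, 1, 0, 1, 1, 0, 1, 1, 1, 1, 0, 1, 1, 1, 1, 0, 1, 1, 0, 1, 1, 1, 1, 0, 1, 1], [1, 0, 1, 1, 0, 1, 0, 1, 1, 0, 1, 1, 0, 1, 0, 1, 1, 0, 1, 0, 1], 1)], [([0, 1, 1, 1, 1, 0, 1, 1, 1, 1, 0], [0, 1, 1, 0, 1, 1, 0], 1), ([0, 1, 1, 0, 1, 1, 0, 1, 1, 0, 1, 1], [1, 0, 1, 0, 1, 0, 1, 0], 1)]),
   ([([1, 1, 1, 1, 0, 1, 1, 1, 1, 0, 1, 1, 0, 1, 1, 1, 1, 0, 1, 1, 0, 1, 1, 1, 1, 0, 1, 1, 1, 1, 0, 1, 1, 0], [0, 1, 0, 1, 1, 0, 1, 1, 0, 1, 0, 1, 1, 0, 1, 0, 1, 1, 0, 1, 1], 1)], [([0, 1, 1, 1, 1, 0, 1, 1, 0, 1, 1, 1, 1, 0, 1, 1, 1, 1, 0, 1, 1, 0, 1, 1, 0], [0, 1, 0, 1, 0, 1, 1, 0, 1, 1, 0, 1, 0, 1, 1, 0], 1), ([1, 1, 1, 1, 0, 1, 1, 1, 1, 0, 1, 1, 0, 1, 1, 1, 1, 0, 1, 1, 1, 1, 0, 1, 1, 0, 1, 1, 0], [0, 1, 0, 1, 0, 1,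 1, 0, 1, 1, 0, 1, 0, 1, 1, 0, 1, 1], 1)]),
   ([([1, 1, 0, 1, 1, 1, 1, 0, 1, 1, 1, 1, 0, 1, 1, 0, 1, 1, 1, 1, 0, 1, 1, 0, 1, 1, 1, 1, 0, 1, 1, 0, 1, 1, 1, 1, 0], [0, 1, 1, 0, 1, 0, 1, 1, 0, 1, 0, 1, 1, 0, 1, 0, 1, 1, 0, 1, 1, 0, 1], 1)], [([0, 1, 1, 0, 1, 1], [1, 0, 1, 0], 1), ([1, 1, 1, 1, 0, 1, 1, 0, 1, 1], [1, 0, 1, 0, 1, 1], 1)]),
   ([([1, 1, 0, 1, 1, 1, 1, 0, 1, 1, 0, 1, 1, 0, 1, 1, 1, 1, 0, 1, 1, 0, 1, 1, 0], [0, 1, 0, 1, 0, 1, 1, 0, 1, 0, 1, 0, 1, 1, 0, 1], 1)], [([0, 1, 1, 0, 1, 1, 1, 1, 0, 1, 1, 0, 1, 1, 1, 1, 0, 1, 1, 1, 1, 0, 1, 1], [1, 0, 1, 1, 0, 1, 1, 0, 1, 0, 1, 1, 0, 1, 0], 1), ([1, 1, 1, 1, 0, 1, 1, 0, 1, 1, 1, 1, 0, 1, 1, 0, 1, 1, 1, 1, 0, 1, 1, 1, 1, 0, 1, 1], [1, 0, 1, 1, 0, 1, 1, 0, 1, 0, 1, 1, 0, 1, 0, 1,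 1], 1)]),
   ([([1, 1, 0, 1, 1, 1, 1, 0, 1, 1, 0, 1, 1, 0, 1, 1, 1, 1, 0, 1, 1, 0, 1, 1, 1, 1, 0, 1, 1, 0, 1, 1, 1, 1, 0, 1, 1, 0, 1, 1], [1, 0, 1, 0, 1, 1, 0, 1, 0, 1, 1, 0, 1, 0, 1, 1, 0, 1, 0, 1, 0, 1, 1, 0, 1], 1)], [([0, 1, 1, 1, 1, 0, 1, 1, 0, 1, 1, 1, 1, 0, 1, 1, 0, 1, 1, 1, 1, 0, 1, 1, 0, 1, 1, 1, 1], [1, 1, 0, 1, 0, 1, 1, 0, 1, 0, 1, 1, 0, 1, 0, 1, 1, 0], 1), ([1, 1, 1, 1, 0, 1, 1, 1, 1, 0, 1, 1, 0, 1, 1, 1, 1, 0, 1, 1, 0, 1, 1, 1, 1, 0, 1, 1, 0, 1, 1, 1, 1], [1, 1, 0, 1, 0, 1, 1, 0, 1, 0, 1, 1, 0, 1, 0, 1, 1, 0, 1, 1], 1)])]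

theorem jansyl2_ok : CosetCert.ONP.groupOK jankey jansyl2 = true := by decide +kernel

theorem janfac2_ok : CosetCert.ONP.genOKAll jankey 2 jansyl2 janfac2 = true := by
  decide +kernel

/-- A Sylow 3-subgroup of jan. -/
def jansyl3 : List (List ℕ) :=
  [[],
   [0, 1, 1, 0, 1, 0, 1, 0, 1, 1, 0, 1, 0, 1, 1, 0, 1, 0, 1, 0, 1, 1, 0, 1, 0, 1, 0, 1, 1, 0, 1, 0, 1, 1, 0, 1, 0, 1, 1, 0, 1, 1, 0, 1, 0, 1, 0],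
   [0, 1, 0, 1, 1, 0, 1, 0, 1, 0, 1, 1, 0, 1, 0, 1, 1, 0, 1, 0, 1, 0, 1, 1, 0, 1, 0, 1, 0, 1, 1, 0, 1, 0, 1, 1, 0, 1, 0, 1, 0, 1, 1, 0, 1, 0, 1, 1]]

/-- Generators as products of conjugates of its elements. -/
def janfac3 : List (List (List ℕ × List ℕ × ℕ) × List (List ℕ × List ℕ × ℕ)) :=
  [([], []),
   ([([1, 1, 1, 1, 0, 1, 1, 0, 1, 1, 1, 1, 0], [0, 1, 1, 0, 1, 0, 1, 1], 1), ([0, 1, 1, 1, 1, 0, 1, 1, 0, 1, 1, 1, 1, 0, 1, 1, 0, 1, 1, 1, 1, 0, 1, 1, 0, 1, 1, 0, 1, 1, 1, 1, 0, 1, 1, 0, 1, 1, 1, 1, 0, 1, 1, 0, 1, 1, 1, 1, 0, 1, 1, 1, 1], [1, 1, 0, 1, 1, 0, 1, 0, 1, 1, 0, 1, 0, 1, 1, 0, 1, 0, 1, 0, 1, 1, 0, 1, 0, 1, 1, 0, 1, 0, 1, 1, 0], 2)], [([0, 1, 1, 0, 1, 1, 0, 1, 1, 1, 1, 0, 1, 1, 1, 1, 0, 1, 1, 0, 1, 1, 0, 1, 1, 1, 1, 0,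 1, 1, 1, 1, 0, 1, 1, 0, 1, 1, 1, 1, 0, 1, 1, 0, 1, 1, 0, 1, 1, 1, 1, 0, 1, 1, 1, 1, 0, 1, 1, 0, 1, 1, 0, 1, 1, 1, 1, 0], [0, 1, 1, 0, 1, 0, 1, 0, 1, 1, 0, 1, 1, 0, 1, 0, 1, 0, 1, 1, 0, 1, 0, 1, 1, 0, 1, 1, 0, 1, 0, 1, 0, 1, 1, 0, 1, 1, 0, 1, 0, 1, 0], 1)]),
   ([([1, 1, 1, 1, 0, 1, 1, 0, 1, 1, 1, 1, 0], [0, 1, 1, 0, 1, 0, 1, 1], 1), ([1, 1, 1, 1, 0, 1, 1, 0, 1, 1, 1, 1, 0, 1, 1, 0, 1, 1, 1, 1, 0, 1, 1, 0, 1, 1, 0, 1, 1, 1, 1, 0, 1, 1, 0, 1, 1, 1, 1, 0, 1, 1, 0, 1, 1, 1, 1, 0, 1, 1, 1, 1], [1, 1, 0, 1, 1, 0, 1, 0, 1, 1, 0, 1, 0, 1, 1, 0, 1, 0, 1, 0, 1, 1, 0, 1, 0, 1, 1, 0, 1, 0, 1, 1], 2)], [([0, 1, 1, 0, 1, 1, 0, 1, 1, 1, 1, 0, 1, 1, 1, 1, 0, 1, 1, 0, 1, 1, 0, 1, 1, 1, 1, 0, 1, 1, 1, 1, 0, 1, 1, 0, 1, 1, 1, 1, 0, 1, 1, 0, 1, 1,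 0, 1, 1, 1, 1, 0, 1, 1, 1, 1, 0, 1, 1, 0, 1, 1, 0, 1, 1, 1, 1, 0], [0, 1, 1, 0, 1, 0, 1, 0, 1, 1, 0, 1, 1, 0, 1, 0, 1, 0, 1, 1, 0, 1, 0, 1, 1, 0, 1, 1, 0, 1, 0, 1, 0, 1, 1, 0, 1, 1, 0, 1, 0, 1, 0], 2)])]

theorem jansyl3_ok : CosetCert.ONP.groupOK jankey jansyl3 = true := by decide +kernel

theorem janfac3_ok : CosetCert.ONP.genOKAll jankey 3 jansyl3 janfac3 = true := by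
  decide +kernel

/-- A Sylow 5-subgroup of jan. -/
def jansyl5 : List (List ℕ) :=
  [[],
   [1, 0, 1, 1, 0, 1, 0, 1, 0, 1, 1, 0, 1, 0, 1, 1, 0, 1, 0, 1, 1, 0, 1, 1, 0, 1, 0, 1, 1, 0, 1, 0, 1, 1, 0, 1, 0, 1, 1, 0, 1, 0, 1, 1],
   [1, 0, 1, 0, 1, 1, 0, 1, 0, 1, 1, 0, 1, 0, 1, 0, 1, 1, 0, 1, 0, 1, 1, 0, 1, 1, 0, 1, 0, 1, 0, 1, 1, 0, 1, 0, 1, 1, 0, 1, 0, 1, 1, 0, 1, 0, 1, 0, 1, 1, 0, 1],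
   [1, 1, 0, 1, 1, 0, 1, 0, 1, 1, 0, 1, 0, 1, 1, 0, 1, 0, 1, 1, 0, 1, 1, 0, 1, 0, 1, 0, 1, 1, 0, 1, 0, 1, 0, 1, 1, 0, 1, 0, 1, 1, 0, 1, 0, 1, 1, 0, 1, 0, 1, 0, 1, 1, 0],
   [1, 0, 1, 1, 0, 1, 0, 1, 1, 0, 1, 0, 1, 1, 0, 1, 0, 1, 1, 0, 1, 0, 1, 0, 1, 1, 0, 1, 0, 1, 1, 0, 1, 0, 1, 1, 0, 1, 1, 0, 1, 0, 1, 1]]

/-- Generators as products of conjugates of its elements. -/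
def janfac5 : List (List (List ℕ × List ℕ × ℕ) × List (List ℕ × List ℕ × ℕ)) :=
  [([], []),
   ([([1, 1, 1, 1, 0], [0, 1, 1], 1), ([0, 1, 1, 0, 1, 1, 0, 1, 1, 0, 1, 1, 1, 1, 0, 1, 1, 0, 1, 1, 1, 1, 0, 1, 1, 0, 1, 1, 0, 1, 1, 1, 1, 0, 1, 1, 1, 1, 0, 1, 1, 0, 1, 1, 1, 1], [1, 1, 0, 1, 0, 1, 1, 0, 1, 1, 0, 1, 0, 1, 0, 1, 1, 0, 1, 0, 1, 1, 0, 1, 0, 1, 0, 1, 0], 1)], [([0], [0], 1), ([1, 1, 0, 1, 1, 1, 1, 0, 1, 1, 0, 1, 1, 1, 1, 0, 1, 1, 0, 1, 1, 1, 1, 0, 1, 1, 0, 1, 1, 1, 1, 0], [0, 1, 1, 0, 1, 0, 1, 1, 0, 1, 0, 1, 1, 0, 1, 0, 1, 1, 0, 1], 1)]),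
   ([([1, 1, 0, 1, 1], [1, 0, 1], 1), ([1, 1, 0, 1, 1, 0, 1, 1, 0, 1, 1, 1, 1, 0, 1, 1, 1, 1, 0, 1, 1, 0, 1, 1, 0, 1, 1, 1, 1, 0, 1, 1, 1, 1, 0, 1, 1, 0], [0, 1, 0, 1, 1, 0, 1, 1, 0, 1, 0, 1, 0, 1, 1, 0, 1, 1, 0, 1, 0, 1, 0, 1], 1)], [([0], [0], 3), ([1, 1, 0, 1, 1, 1, 1, 0, 1, 1, 0, 1, 1, 1, 1, 0, 1, 1, 0, 1, 1, 1, 1, 0, 1, 1, 0, 1, 1, 1, 1, 0], [0, 1, 1, 0, 1, 0, 1, 1, 0, 1, 0, 1, 1, 0, 1, 0, 1, 1, 0, 1], 3)]),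
   ([([1, 1, 0, 1, 1], [1, 0, 1], 1), ([0, 1, 1, 0, 1, 1, 0, 1, 1, 0, 1, 1, 1, 1, 0, 1, 1, 1, 1, 0, 1, 1, 0, 1, 1, 0, 1, 1, 1, 1, 0, 1, 1, 1, 1, 0, 1, 1, 0], [0, 1, 0, 1, 1, 0, 1, 1, 0, 1, 0, 1, 0, 1, 1, 0, 1, 1, 0, 1, 0, 1, 0, 1, 0], 1)], [([0], [0], 2), ([1, 1, 0, 1, 1, 1, 1, 0, 1, 1, 0, 1, 1, 1, 1, 0, 1, 1, 0, 1, 1, 1, 1, 0, 1, 1, 0, 1, 1, 1, 1, 0], [0, 1, 1, 0, 1, 0, 1, 1, 0, 1, 0, 1, 1, 0, 1, 0, 1, 1, 0, 1], 2)]),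
   ([([1, 1, 1, 1, 0], [0, 1, 1], 1), ([1, 1, 0, 1, 1, 0, 1, 1, 0, 1, 1, 1, 1, 0, 1, 1, 0, 1, 1, 1, 1, 0, 1, 1, 0, 1, 1, 0, 1, 1, 1, 1, 0, 1, 1, 1, 1, 0, 1, 1, 0, 1, 1, 1, 1], [1, 1, 0, 1, 0, 1, 1, 0, 1, 1, 0, 1, 0, 1, 0, 1, 1, 0, 1, 0, 1, 1, 0, 1, 0, 1, 0, 1], 1)], [([0], [0], 4), ([1, 1, 0, 1, 1, 1, 1, 0, 1, 1, 0, 1, 1, 1, 1, 0, 1, 1, 0, 1, 1, 1, 1, 0, 1, 1, 0, 1, 1, 1, 1, 0], [0, 1, 1, 0, 1, 0, 1, 1, 0, 1, 0, 1, 1, 0, 1, 0, 1, 1, 0, 1], 4)])]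

theorem jansyl5_ok : CosetCert.ONP.groupOK jankey jansyl5 = true := by decide +kernel

theorem janfac5_ok : CosetCert.ONP.genOKAll jankey 5 jansyl5 janfac5 = true := by
  decide +kernel

/-- A Sylow 7-subgroup of jan. -/
def jansyl7 : List (List ℕ) :=
  [[],
   [0, 1, 1, 0, 1, 0, 1, 1, 0, 1, 1, 0, 1, 0, 1, 1, 0, 1, 0, 1, 1, 0, 1, 1, 0, 1, 0, 1, 1, 0, 1, 0, 1, 0, 1, 1, 0, 1],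
   [0, 1, 0, 1, 0, 1, 1, 0, 1, 1, 0, 1, 0, 1, 0, 1, 1, 0, 1, 1, 0, 1, 0, 1, 1, 0, 1, 0, 1, 1, 0, 1, 0, 1, 1, 0, 1, 0, 1, 0, 1, 1, 0, 1, 0, 1, 1, 0, 1],
   [0, 1, 0, 1, 0, 1, 1, 0, 1, 0, 1, 0, 1, 1, 0, 1, 0, 1, 0, 1, 1, 0, 1, 0, 1, 1, 0, 1, 1, 0, 1, 0, 1, 0, 1, 1, 0, 1, 0, 1, 1, 0, 1, 0, 1, 0, 1, 1, 0],
   [0, 1, 0, 1, 1, 0, 1, 1, 0, 1, 0, 1, 1, 0, 1, 0, 1, 1, 0, 1, 1, 0, 1, 0, 1, 0, 1, 1, 0, 1, 1, 0, 1, 0, 1, 0, 1, 1, 0, 1, 0, 1, 1, 0, 1, 0, 1, 0, 1],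
   [1, 1, 0, 1, 0, 1, 1, 0, 1, 0, 1, 1, 0, 1, 1, 0, 1, 0, 1, 1, 0, 1, 0, 1, 1, 0, 1, 0, 1, 1, 0, 1, 0, 1, 0, 1, 1, 0, 1, 1, 0, 1, 0, 1, 0, 1, 1, 0, 1, 1, 0],
   [1, 1, 0, 1, 0, 1, 1, 0, 1, 1, 0, 1, 0, 1, 1, 0, 1, 0, 1, 0, 1, 1, 0, 1, 0, 1, 1, 0, 1, 0, 1, 0, 1, 1, 0, 1, 0]]

/-- Generators as products of conjugates of its elements. -/
def janfac7 : List (List (List ℕ × List ℕ × ℕ) × List (List ℕ × List ℕ × ℕ)) :=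
  [([], []),
   ([([], [], 2), ([0, 1, 1, 1, 1, 0, 1, 1, 0, 1, 1, 0, 1, 1, 1, 1, 0, 1, 1, 0, 1, 1, 1, 1, 0, 1, 1, 1, 1, 0, 1, 1, 0, 1, 1, 1, 1, 0, 1, 1, 0, 1, 1, 0, 1, 1, 1, 1], [1, 1, 0, 1, 0, 1, 0, 1, 1, 0, 1, 0, 1, 1, 0, 1, 1, 0, 1, 0, 1, 1, 0, 1, 0, 1, 0, 1, 1, 0], 3)], [([], [], 3), ([1, 1, 1, 1, 0, 1, 1, 1, 1, 0, 1, 1, 0, 1, 1, 1, 1, 0, 1, 1, 0, 1, 1, 0, 1, 1, 1, 1, 0, 1, 1, 0, 1, 1, 1, 1, 0, 1, 1, 1, 1, 0, 1, 1], [1, 0, 1, 1, 0, 1, 1, 0, 1, 0, 1, 1, 0, 1, 0, 1, 0, 1, 1, 0, 1, 0, 1, 1, 0, 1, 1], 3)]),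
   ([([], [], 1), ([0, 1, 1, 1, 1, 0, 1, 1, 0, 1, 1, 0, 1, 1, 1, 1, 0, 1, 1, 0, 1, 1, 1, 1, 0, 1, 1, 1, 1, 0, 1, 1, 0, 1, 1, 1, 1, 0, 1, 1, 0, 1, 1, 0, 1, 1, 1, 1], [1, 1, 0, 1, 0, 1, 0, 1, 1, 0, 1, 0, 1, 1, 0, 1, 1, 0, 1, 0, 1, 1, 0, 1, 0, 1, 0, 1, 1, 0], 5)], [([], [], 5), ([1, 1, 1, 1, 0, 1, 1, 1, 1, 0, 1, 1, 0, 1, 1, 1, 1, 0, 1, 1, 0, 1, 1, 0, 1, 1, 1, 1, 0, 1, 1, 0, 1, 1, 1, 1, 0, 1, 1, 1, 1, 0, 1, 1], [1, 0, 1, 1, 0, 1, 1, 0, 1, 0, 1, 1, 0, 1, 0, 1, 0, 1, 1, 0, 1, 0, 1, 1, 0, 1, 1], 5)]),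
   ([([], [], 3), ([0, 1, 1, 1, 1, 0, 1, 1, 0, 1, 1, 0, 1, 1, 1, 1, 0, 1, 1, 0, 1, 1, 1, 1, 0, 1, 1, 1, 1, 0, 1, 1, 0, 1, 1, 1, 1, 0, 1, 1, 0, 1, 1, 0, 1, 1, 1, 1], [1, 1, 0, 1, 0, 1, 0, 1, 1, 0, 1, 0, 1, 1, 0, 1, 1, 0, 1, 0, 1, 1, 0, 1, 0, 1, 0, 1, 1, 0], 1)], [([], [], 1), ([1, 1, 1, 1, 0, 1, 1, 1, 1, 0, 1, 1, 0, 1, 1, 1, 1, 0, 1, 1, 0, 1, 1, 0, 1, 1, 1, 1, 0, 1, 1, 0, 1, 1, 1, 1, 0, 1, 1, 1, 1, 0, 1, 1], [1, 0, 1, 1, 0, 1, 1, 0, 1, 0, 1, 1, 0, 1, 0, 1, 0, 1, 1, 0, 1, 0, 1, 1, 0, 1, 1], 1)]),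
   ([([], [], 3), ([1, 1, 1, 1, 0, 1, 1, 0, 1, 1, 0, 1, 1, 1, 1, 0, 1, 1, 0, 1, 1, 1, 1, 0, 1, 1, 1, 1, 0, 1, 1, 0, 1, 1, 1, 1, 0, 1, 1, 0, 1, 1, 0, 1, 1, 1, 1], [1, 1, 0, 1, 0, 1, 0, 1, 1, 0, 1, 0, 1, 1, 0, 1, 1, 0, 1, 0, 1, 1, 0, 1, 0, 1, 0, 1, 1], 1)], [([], [], 6), ([1, 1, 1, 1, 0, 1, 1, 1, 1, 0, 1, 1, 0, 1, 1, 1, 1, 0, 1, 1, 0, 1, 1, 0, 1, 1, 1, 1, 0, 1, 1, 0, 1, 1, 1, 1, 0, 1, 1, 1, 1, 0, 1, 1], [1, 0, 1, 1, 0, 1, 1, 0, 1, 0, 1, 1, 0, 1, 0, 1, 0, 1, 1, 0, 1, 0, 1, 1, 0, 1, 1], 6)]),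
   ([([], [], 1), ([1, 1, 1, 1, 0, 1, 1, 0, 1, 1, 0, 1, 1, 1, 1, 0, 1, 1, 0, 1, 1, 1, 1, 0, 1, 1, 1, 1, 0, 1, 1, 0, 1, 1, 1, 1, 0, 1, 1, 0, 1, 1, 0, 1, 1, 1, 1], [1, 1, 0, 1, 0, 1, 0, 1, 1, 0, 1, 0, 1, 1, 0, 1, 1, 0, 1, 0, 1, 1, 0, 1, 0, 1, 0, 1, 1], 5)], [([], [], 2), ([1, 1, 1, 1, 0, 1, 1, 1, 1, 0, 1, 1, 0, 1, 1, 1, 1, 0, 1, 1, 0, 1, 1, 0, 1, 1, 1, 1, 0, 1, 1, 0, 1, 1, 1, 1, 0, 1, 1, 1, 1, 0, 1, 1], [1, 0, 1, 1, 0, 1, 1, 0, 1, 0, 1, 1, 0, 1, 0, 1, 0, 1, 1, 0, 1, 0, 1, 1, 0, 1, 1], 2)]),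
   ([([], [], 2), ([1, 1, 1, 1, 0, 1, 1, 0, 1, 1, 0, 1, 1, 1, 1, 0, 1, 1, 0, 1, 1, 1, 1, 0, 1, 1, 1, 1, 0, 1, 1, 0, 1, 1, 1, 1, 0, 1, 1, 0, 1, 1, 0, 1, 1, 1, 1], [1, 1, 0, 1, 0, 1, 0, 1, 1, 0, 1, 0, 1, 1, 0, 1, 1, 0, 1, 0, 1, 1, 0, 1, 0, 1, 0, 1, 1], 3)], [([], [], 4), ([1, 1, 1, 1, 0, 1, 1, 1, 1, 0, 1, 1, 0, 1, 1, 1, 1, 0, 1, 1, 0, 1, 1, 0, 1, 1, 1, 1, 0, 1, 1, 0, 1, 1, 1, 1, 0, 1, 1, 1, 1, 0, 1, 1], [1, 0, 1, 1, 0, 1, 1, 0, 1, 0, 1, 1, 0, 1, 0, 1, 0, 1, 1, 0, 1, 0, 1, 1, 0, 1, 1], 4)])]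

theorem jansyl7_ok : CosetCert.ONP.groupOK jankey jansyl7 = true := by decide +kernel

theorem janfac7_ok : CosetCert.ONP.genOKAll jankey 7 jansyl7 janfac7 = true := by
  decide +kernel

/-- A Sylow 11-subgroup of jan. -/
def jansyl11 : List (List ℕ) :=
  [[],
   [1, 1, 0, 1, 0, 1, 0, 1, 1, 0, 1, 0, 1, 1, 0, 1, 0, 1, 1, 0, 1, 0, 1, 0, 1, 1, 0, 1, 0, 1, 1, 0, 1, 1, 0, 1, 0, 1, 1, 0, 1, 0, 1, 1, 0, 1, 1],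
   [1, 0, 1, 1, 0, 1, 1, 0, 1, 0, 1, 0, 1, 1, 0, 1, 1, 0, 1, 0, 1, 0, 1, 1, 0, 1, 0, 1, 0, 1, 1, 0, 1, 0, 1, 1, 0, 1, 1, 0, 1, 0, 1, 0, 1, 1, 0, 1, 0, 1, 1],
   [1, 0, 1, 0, 1, 1, 0, 1, 0, 1, 1, 0, 1, 1, 0, 1, 0, 1, 1, 0, 1, 0, 1, 1, 0, 1, 0, 1, 1, 0, 1, 0, 1, 0, 1, 1, 0, 1, 1, 0, 1, 0, 1, 0, 1, 1, 0, 1, 1, 0],
   [1, 0, 1, 0, 1, 1, 0, 1, 0, 1, 1, 0, 1, 0, 1, 0, 1, 1, 0, 1, 0, 1, 1, 0, 1, 0, 1, 1, 0, 1, 0, 1, 1, 0, 1, 1, 0, 1, 0, 1, 1, 0, 1, 0, 1, 1, 0, 1, 0],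
   [1, 1, 0, 1, 0, 1, 0, 1, 1, 0, 1, 0, 1, 1, 0, 1, 1, 0, 1, 0, 1, 1, 0, 1, 0, 1, 0, 1, 1, 0, 1, 1, 0, 1, 0, 1, 1, 0, 1, 0],
   [0, 1, 1, 0, 1, 0, 1, 1, 0, 1, 0, 1, 0, 1, 1, 0, 1, 1, 0, 1, 0, 1, 1, 0, 1, 0, 1, 0, 1, 1, 0, 1, 0, 1, 1, 0, 1, 1, 0, 1],
   [0, 1, 1, 0, 1, 0, 1, 1, 0, 1, 0, 1, 1, 0, 1, 0, 1, 0, 1, 1, 0, 1, 0, 1, 1, 0, 1, 0, 1, 1, 0, 1, 0, 1, 1, 0, 1, 1, 0, 1, 0, 1, 1, 0, 1, 0, 1, 1, 0, 1, 1],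
   [0, 1, 0, 1, 0, 1, 1, 0, 1, 1, 0, 1, 0, 1, 0, 1, 1, 0, 1, 1, 0, 1, 0, 1, 1, 0, 1, 0, 1, 1, 0, 1, 0, 1, 1, 0, 1, 0, 1, 0, 1, 1, 0, 1, 0, 1, 1, 0, 1, 1],
   [1, 0, 1, 1, 0, 1, 0, 1, 1, 0, 1, 1, 0, 1, 0, 1, 0, 1, 1, 0, 1, 1, 0, 1, 0, 1, 0, 1, 1, 0, 1, 0, 1, 0, 1, 1, 0, 1, 0, 1, 1, 0, 1, 1, 0, 1, 0, 1, 0, 1, 1],
   [1, 0, 1, 0, 1, 1, 0, 1, 0, 1, 1, 0, 1, 0, 1, 0, 1, 1, 0, 1, 0, 1, 1, 0, 1, 1, 0, 1, 0, 1, 1, 0, 1, 0, 1, 1, 0, 1, 0, 1, 1, 0, 1, 1, 0, 1]]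

/-- Generators as products of conjugates of its elements. -/
def janfac11 : List (List (List ℕ × List ℕ × ℕ) × List (List ℕ × List ℕ × ℕ)) :=
  [([], []),
   ([([1, 1], [1], 4), ([0, 1, 1, 0, 1, 1, 1, 1, 0, 1, 1, 1, 1, 0, 1, 1, 0, 1, 1, 1, 1, 0, 1, 1, 0, 1, 1, 0, 1, 1, 1, 1, 0, 1, 1, 0, 1, 1], [1, 0, 1, 0, 1, 1, 0, 1, 0, 1, 0, 1, 1, 0, 1, 0, 1, 1, 0, 1, 1, 0, 1, 0], 5)], [([0], [0], 1), ([1, 1, 1, 1, 0], [0, 1, 1], 1)]),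
   ([([1, 1], [1], 2), ([0, 1, 1, 0, 1, 1, 1, 1, 0, 1, 1, 1, 1, 0, 1, 1, 0, 1, 1, 1, 1, 0, 1, 1, 0, 1, 1, 0, 1, 1, 1, 1, 0, 1, 1, 0, 1, 1], [1, 0, 1, 0, 1, 1, 0, 1, 0, 1, 0, 1, 1, 0, 1, 0, 1, 1, 0, 1, 1, 0, 1, 0], 8)], [([0], [0], 4), ([0, 1, 1, 0, 1, 1, 1, 1, 0, 1, 1, 0, 1, 1, 1, 1, 0, 1, 1, 0, 1, 1, 1, 1, 0, 1, 1, 0], [0, 1, 0, 1, 1, 0, 1, 0, 1, 1, 0, 1, 0, 1, 1, 0, 1, 0], 1)]),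
   ([([1, 1], [1], 2), ([0, 1, 1, 1, 1, 0, 1, 1, 0, 1, 1, 1, 1, 0, 1, 1, 1, 1, 0, 1, 1, 0, 1, 1, 1, 1, 0, 1, 1, 0, 1, 1, 0], [0, 1, 0, 1, 0, 1, 1, 0, 1, 0, 1, 1, 0, 1, 1, 0, 1, 0, 1, 1, 0], 6)], [([0], [0], 4), ([1, 1, 1, 1, 0], [0, 1, 1], 4)]),
   ([([1, 1], [1], 1), ([0, 1, 1, 0, 1, 1, 1, 1, 0, 1, 1, 1, 1, 0, 1, 1, 0, 1, 1, 1, 1, 0, 1, 1, 0, 1, 1, 0, 1, 1, 1, 1, 0, 1, 1, 0, 1, 1], [1, 0, 1, 0, 1, 1, 0, 1, 0, 1, 0, 1, 1, 0, 1, 0, 1, 1, 0, 1, 1, 0, 1, 0], 4)], [([0], [0], 2), ([0, 1, 1, 0, 1, 1, 1, 1, 0, 1, 1, 0, 1, 1, 1, 1, 0, 1, 1, 0, 1, 1, 1, 1, 0, 1, 1, 0], [0, 1, 0, 1, 1, 0, 1, 0, 1, 1, 0, 1, 0, 1, 1, 0, 1, 0], 6)]),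
   ([([1, 1], [1], 1), ([1, 1, 1, 1, 0, 1, 1, 0, 1, 1, 1, 1, 0, 1, 1, 1, 1, 0, 1, 1, 0, 1, 1, 1, 1, 0, 1, 1, 0, 1, 1, 0], [0, 1, 0, 1, 0, 1, 1, 0, 1, 0, 1, 1, 0, 1, 1, 0, 1, 0, 1, 1], 3)], [([0], [0], 6), ([0, 1, 1, 0, 1, 1, 1, 1, 0, 1, 1, 0, 1, 1, 1, 1, 0, 1, 1, 0, 1, 1, 1, 1, 0, 1, 1, 0], [0, 1, 0, 1, 1, 0, 1, 0, 1, 1, 0, 1, 0, 1, 1, 0, 1, 0], 7)]),
   ([([1, 1], [1], 1), ([0, 1, 1, 1, 1, 0, 1, 1, 0, 1, 1, 1, 1, 0, 1, 1, 1, 1, 0, 1, 1, 0, 1, 1, 1, 1, 0, 1, 1, 0, 1, 1, 0], [0, 1, 0, 1, 0, 1, 1, 0, 1, 0, 1, 1, 0, 1, 1, 0, 1, 0, 1, 1, 0], 3)], [([0], [0], 2), ([1, 1, 1, 1, 0], [0, 1, 1], 2)]),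
   ([([1, 1], [1], 1), ([1, 1, 0, 1, 1, 1, 1, 0, 1, 1, 1, 1, 0, 1, 1, 0, 1, 1, 1, 1, 0, 1, 1, 0, 1, 1, 0, 1, 1, 1, 1, 0, 1, 1, 0, 1, 1], [1, 0, 1, 0, 1, 1, 0, 1, 0, 1, 0, 1, 1, 0, 1, 0, 1, 1, 0, 1, 1, 0, 1], 4)], [([0], [0], 8), ([1, 1, 1, 1, 0], [0, 1, 1], 8)]),
   ([([1, 1], [1], 2), ([1, 1, 1, 1, 0, 1, 1, 0, 1, 1, 1, 1, 0, 1, 1, 1, 1, 0, 1, 1, 0, 1, 1, 1, 1, 0, 1, 1, 0, 1, 1, 0], [0, 1, 0, 1, 0, 1, 1, 0, 1, 0, 1, 1, 0, 1, 1, 0, 1, 0, 1, 1], 6)], [([0], [0], 1), ([0, 1, 1, 0, 1, 1, 1, 1, 0, 1, 1, 0, 1, 1, 1, 1, 0, 1, 1, 0, 1, 1, 1, 1, 0, 1, 1, 0], [0, 1, 0, 1, 1, 0, 1, 0, 1, 1, 0, 1, 0, 1, 1, 0, 1, 0], 3)]),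
   ([([1, 1], [1], 2), ([1, 1, 0, 1, 1, 1, 1, 0, 1, 1, 1, 1, 0, 1, 1, 0, 1, 1, 1, 1, 0, 1, 1, 0, 1, 1, 0, 1, 1, 1, 1, 0, 1, 1, 0, 1, 1], [1, 0, 1, 0, 1, 1, 0, 1, 0, 1, 0, 1, 1, 0, 1, 0, 1, 1, 0, 1, 1, 0, 1], 8)], [([0], [0], 5), ([1, 1, 1, 1, 0], [0, 1, 1], 5)]),
   ([([1, 1], [1], 4), ([1, 1, 0, 1, 1, 1, 1, 0, 1, 1, 1, 1, 0, 1, 1, 0, 1, 1, 1, 1, 0, 1, 1, 0, 1, 1, 0, 1, 1, 1, 1, 0, 1, 1, 0, 1, 1], [1, 0, 1, 0, 1, 1, 0, 1, 0, 1, 0, 1, 1, 0, 1, 0, 1, 1, 0, 1, 1, 0, 1], 5)], [([0], [0], 3), ([0, 1, 1, 0, 1, 1, 1, 1, 0, 1, 1, 0, 1, 1, 1, 1, 0, 1, 1, 0, 1, 1, 1, 1, 0, 1, 1, 0], [0, 1, 0, 1, 1, 0, 1, 0, 1, 1, 0, 1, 0, 1, 1, 0, 1, 0], 9)])]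

theorem jansyl11_ok : CosetCert.ONP.groupOK jankey jansyl11 = true := by decide +kernel

theorem janfac11_ok : CosetCert.ONP.genOKAll jankey 11 jansyl11 janfac11 = true := by
  decide +kernel

/-- A Sylow 19-subgroup of jan. -/
def jansyl19 : List (List ℕ) :=
  [[],
   [0, 1, 0, 1, 1, 0, 1, 0, 1, 1, 0, 1, 0, 1, 1, 0, 1, 0, 1, 1, 0, 1, 1, 0, 1, 0, 1, 1, 0, 1, 0, 1, 0, 1, 1, 0, 1, 1, 0, 1, 0, 1, 1, 0, 1, 0, 1, 1, 0, 1, 1],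
   [1, 0, 1, 0, 1, 0, 1, 1, 0, 1, 0, 1, 1, 0, 1, 0, 1, 0, 1, 1, 0, 1, 1, 0, 1, 0, 1, 0, 1, 1, 0, 1, 0, 1, 1, 0, 1, 0, 1, 0, 1, 1],
   [1, 1, 0, 1, 0, 1, 1, 0, 1, 0, 1, 0, 1, 1, 0, 1, 0, 1, 0, 1, 1, 0, 1, 1, 0, 1, 0, 1, 0, 1, 1, 0, 1, 0, 1, 0, 1, 1, 0, 1, 0],
   [1, 0, 1, 0, 1, 0, 1, 1, 0, 1, 0, 1, 1, 0, 1, 1, 0, 1, 0, 1, 0, 1, 1, 0, 1, 0, 1, 1, 0, 1, 0, 1, 0, 1, 1, 0, 1, 0, 1, 0, 1, 1, 0, 1, 0, 1, 0],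
   [0, 1, 1, 0, 1, 0, 1, 0, 1, 1, 0, 1, 0, 1, 1, 0, 1, 1, 0, 1, 0, 1, 1, 0, 1, 0, 1, 0, 1, 1, 0, 1],
   [1, 0, 1, 0, 1, 0, 1, 1, 0, 1, 1, 0, 1, 0, 1, 0, 1, 1, 0, 1, 0, 1, 0, 1, 1, 0, 1, 1, 0, 1, 0, 1, 0, 1, 1],
   [0, 1, 1, 0, 1, 1, 0, 1, 0, 1, 0, 1, 1, 0, 1, 1, 0, 1, 0, 1, 0, 1, 1, 0, 1, 1, 0, 1, 0, 1, 1, 0, 1, 0, 1, 0, 1, 1, 0, 1, 0, 1, 1, 0, 1, 0, 1, 0, 1, 1, 0, 1, 0, 1, 1, 0],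
   [1, 0, 1, 0, 1, 0, 1, 1, 0, 1, 0, 1, 1, 0, 1, 0, 1, 1, 0, 1, 1, 0, 1, 0, 1, 1, 0, 1, 0, 1, 0, 1, 1, 0, 1, 1, 0, 1, 0, 1, 1, 0, 1, 0, 1, 1, 0, 1, 1, 0, 1, 0, 1, 0, 1, 0],
   [1, 0, 1, 1, 0, 1, 1, 0, 1, 0, 1, 1, 0, 1, 0, 1, 1, 0, 1, 0, 1, 0, 1, 1, 0, 1, 0, 1, 1, 0, 1, 0, 1, 0, 1, 1, 0, 1, 0, 1, 1, 0, 1, 1, 0, 1, 0, 1, 0, 1, 0],
   [1, 0, 1, 0, 1, 0, 1, 1, 0, 1, 0, 1, 1, 0, 1, 0, 1, 1, 0, 1, 1, 0, 1, 0, 1, 1, 0, 1, 0, 1, 1, 0, 1, 1, 0, 1, 0, 1, 1, 0, 1, 0, 1, 1, 0, 1, 0, 1, 0, 1, 1],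
   [1, 0, 1, 0, 1, 0, 1, 1, 0, 1, 0, 1, 1, 0, 1, 0, 1, 1, 0, 1, 0, 1, 0, 1, 1, 0, 1, 1, 0, 1, 0, 1, 1, 0, 1, 0, 1, 0, 1, 1, 0, 1, 0, 1, 1, 0, 1, 1, 0, 1, 0, 1, 0, 1, 0],
   [0, 1, 0, 1, 1, 0, 1, 0, 1, 1, 0, 1, 1, 0, 1, 0, 1, 1, 0, 1, 0, 1, 1, 0, 1, 1, 0, 1, 0, 1, 1, 0, 1, 0, 1, 0, 1, 1, 0, 1, 1, 0, 1, 0, 1, 0, 1, 1, 0, 1, 1, 0, 1, 0, 1, 0],
   [1, 0, 1, 1, 0, 1, 1, 0, 1, 0, 1, 1, 0, 1, 0, 1, 0, 1, 1, 0, 1, 0, 1, 0, 1, 1, 0, 1, 1, 0, 1, 0, 1, 0, 1, 0],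
   [1, 1, 0, 1, 0, 1, 1, 0, 1, 1, 0, 1, 0, 1, 1, 0, 1, 0, 1, 0, 1, 1, 0, 1, 0, 1, 1, 0, 1, 1, 0, 1, 0],
   [0, 1, 0, 1, 1, 0, 1, 0, 1, 0, 1, 1, 0, 1, 0, 1, 0, 1, 1, 0, 1, 0, 1, 1, 0, 1, 0, 1, 1, 0, 1, 0, 1, 0, 1, 1, 0, 1, 0, 1, 0, 1, 1, 0, 1, 0, 1],
   [0, 1, 1, 0, 1, 1, 0, 1, 0, 1, 0, 1, 1, 0, 1, 0, 1, 0, 1, 1, 0, 1, 1, 0, 1, 0, 1, 0, 1, 1, 0, 1, 0, 1, 0, 1, 1, 0, 1, 1, 0, 1],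
   [1, 0, 1, 1, 0, 1, 1, 0, 1, 0, 1, 1, 0, 1, 0, 1, 1, 0, 1, 1, 0, 1, 0, 1, 1, 0, 1, 0, 1, 0, 1, 1, 0, 1, 0, 1, 0, 1, 1, 0, 1, 0, 1, 0],
   [1, 0, 1, 0, 1, 1, 0, 1, 0, 1, 1, 0, 1, 0, 1, 0, 1, 1, 0, 1, 1, 0, 1, 0, 1, 1, 0, 1, 0, 1, 0, 1, 1, 0, 1, 0, 1, 1, 0, 1, 0, 1, 1, 0, 1, 0, 1, 1, 0]]

/-- Generators as products of conjugates of its elements. -/
def janfac19 : List (List (List ℕ × List ℕ × ℕ) × List (List ℕ × List ℕ × ℕ)) :=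
  [([], []),
   ([([1, 1], [1], 2), ([1, 1, 0, 1, 1, 0, 1, 1, 0, 1, 1, 1, 1, 0, 1, 1], [1, 0, 1, 1, 0, 1, 0, 1, 0, 1], 16)], [([], [], 1), ([1, 1, 0, 1, 1, 1, 1, 0, 1, 1, 0, 1, 1, 1, 1, 0, 1, 1, 1, 1, 0, 1, 1, 0, 1, 1, 0, 1, 1, 1, 1, 0], [0, 1, 1, 0, 1, 0, 1, 0, 1, 1, 0, 1, 1, 0, 1, 0, 1, 1, 0, 1], 2)]),
   ([([1, 1], [1], 1), ([1, 1, 0, 1, 1, 0, 1, 1, 0, 1, 1, 1, 1, 0, 1, 1], [1, 0, 1, 1, 0, 1, 0, 1, 0, 1], 8)], [([], [], 1), ([1, 1, 0, 1, 1], [1, 0, 1], 11)]),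
   ([([1, 1], [1], 1), ([1, 1, 1, 1, 0, 1, 1, 0, 1, 1, 0, 1, 1, 1, 1, 0, 1, 1, 0, 1, 1, 1, 1, 0, 1, 1, 0, 1, 1, 1, 1, 0, 1, 1, 0, 1, 1, 0, 1, 1, 1, 1, 0, 1, 1], [1, 0, 1, 1, 0, 1, 0, 1, 0, 1, 1, 0, 1, 0, 1, 1, 0, 1, 0, 1, 1, 0, 1, 0, 1, 0, 1, 1], 2)], [([], [], 3), ([1, 1, 0, 1, 1, 0, 1, 1, 1, 1, 0, 1, 1, 1, 1, 0, 1, 1, 0, 1, 1, 0, 1, 1, 1, 1, 0, 1, 1, 0, 1, 1, 0, 1, 1, 1, 1, 0], [0, 1, 1, 0, 1, 0, 1, 0, 1, 1, 0, 1, 0, 1, 0, 1, 1, 0, 1, 1, 0, 1, 0, 1], 5)]),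
   ([([1, 1], [1], 4), ([0, 1, 1, 0, 1, 1, 1, 1, 0, 1, 1, 0, 1, 1, 1, 1, 0, 1, 1, 1, 1, 0, 1, 1, 0, 1, 1, 0, 1, 1, 1, 1, 0, 1, 1, 1, 1, 0, 1, 1, 0, 1, 1, 1, 1, 0], [0, 1, 1, 0, 1, 0, 1, 1, 0, 1, 1, 0, 1, 0, 1, 0, 1, 1, 0, 1, 1, 0, 1, 0, 1, 1, 0, 1, 0], 1)], [([], [], 5), ([1, 1, 0, 1, 1, 1, 1, 0, 1, 1, 0, 1, 1, 1, 1, 0, 1, 1, 1, 1, 0, 1, 1, 0, 1, 1, 0, 1, 1, 1, 1, 0], [0, 1, 1, 0, 1, 0, 1, 0, 1, 1, 0, 1, 1, 0, 1, 0, 1, 1, 0, 1], 10)]),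
   ([([1, 1], [1], 7), ([1, 1, 0, 1, 1, 1, 1, 0, 1, 1, 1, 1, 0, 1, 1, 0, 1, 1, 1, 1, 0, 1, 1, 0, 1, 1, 1, 1, 0, 1, 1, 0, 1, 1, 1, 1, 0, 1, 1, 1, 1, 0, 1, 1, 0, 1, 1], [1, 0, 1, 0, 1, 1, 0, 1, 1, 0, 1, 0, 1, 1, 0, 1, 0, 1, 1, 0, 1, 0, 1, 1, 0, 1, 1, 0, 1], 14)], [([], [], 1), ([1, 1, 0, 1, 1, 0, 1, 1, 1, 1, 0, 1, 1, 0, 1, 1, 1, 1, 0, 1, 1, 1, 1, 0, 1, 1, 0, 1, 1, 0, 1, 1, 1, 1, 0, 1, 1, 0, 1, 1, 0, 1, 1], [1, 0, 1, 0, 1, 0, 1, 1, 0, 1, 0, 1, 0, 1, 1, 0, 1, 1, 0, 1, 0, 1, 1, 0, 1, 0, 1], 3)]),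
   ([([1, 1], [1], 6), ([0, 1, 1, 0, 1, 1, 0, 1, 1, 0, 1, 1, 1, 1, 0, 1, 1], [1, 0, 1, 1, 0, 1, 0, 1, 0, 1, 0], 10)], [([], [], 4), ([1, 1, 0, 1, 1, 0, 1, 1, 1, 1, 0, 1, 1, 0, 1, 1, 1, 1, 0, 1, 1, 1, 1, 0, 1, 1, 0, 1, 1, 0, 1, 1, 1, 1, 0, 1, 1, 0, 1, 1, 0, 1, 1], [1, 0, 1, 0, 1, 0, 1, 1, 0, 1, 0, 1, 0, 1, 1, 0, 1, 1, 0, 1, 0, 1, 1, 0, 1, 0, 1], 12)]),
   ([([1, 1], [1], 3), ([1, 1, 0, 1, 1, 0, 1, 1, 0, 1, 1, 1, 1, 0, 1, 1], [1, 0, 1, 1, 0, 1, 0, 1, 0, 1], 5)], [([], [], 3), ([1, 1, 0, 1, 1], [1, 0, 1], 14)]),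
   ([([1, 1], [1], 2), ([1, 1, 0, 1, 1, 1, 1, 0, 1, 1, 1, 1, 0, 1, 1, 0, 1, 1, 1, 1, 0, 1, 1, 0, 1, 1, 1, 1, 0, 1, 1, 0, 1, 1, 1, 1, 0, 1, 1, 1, 1, 0, 1, 1, 0, 1, 1], [1, 0, 1, 0, 1, 1, 0, 1, 1, 0, 1, 0, 1, 1, 0, 1, 0, 1, 1, 0, 1, 0, 1, 1, 0, 1, 1, 0, 1], 4)], [([], [], 3), ([1, 1, 0, 1, 1, 0, 1, 1, 1, 1, 0, 1, 1, 0, 1, 1, 1, 1, 0, 1, 1, 1, 1, 0, 1, 1, 0, 1, 1, 0, 1, 1, 1, 1, 0, 1, 1, 0, 1, 1, 0, 1, 1], [1, 0, 1, 0, 1, 0, 1, 1, 0, 1, 0, 1, 0, 1, 1, 0, 1, 1, 0, 1, 0, 1, 1, 0, 1, 0, 1], 9)]),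
   ([([1, 1], [1], 4), ([0, 1, 1, 0, 1, 1, 0, 1, 1, 0, 1, 1, 1, 1, 0, 1, 1], [1, 0, 1, 1, 0, 1, 0, 1, 0, 1, 0], 13)], [([], [], 1), ([1, 1, 0, 1, 1, 0, 1, 1, 1, 1, 0, 1, 1, 1, 1, 0, 1, 1, 0, 1, 1, 0, 1, 1, 1, 1, 0, 1, 1, 0, 1, 1, 0, 1, 1, 1, 1, 0], [0, 1, 1, 0, 1, 0, 1, 0, 1, 1, 0, 1, 0, 1, 0, 1, 1, 0, 1, 1, 0, 1, 0, 1], 8)]),
   ([([1, 1], [1], 4), ([1, 1, 0, 1, 1, 0, 1, 1, 0, 1, 1, 1, 1, 0, 1, 1], [1, 0, 1, 1, 0, 1, 0, 1, 0, 1], 13)], [([], [], 2), ([1, 1, 0, 1, 1, 1, 1, 0, 1, 1, 0, 1, 1, 1, 1, 0, 1, 1, 1, 1, 0, 1, 1, 0, 1, 1, 0, 1, 1, 1, 1, 0], [0, 1, 1, 0, 1, 0, 1, 0, 1, 1, 0, 1, 1, 0, 1, 0, 1, 1, 0, 1], 4)]),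
   ([([1, 1], [1], 2), ([1, 1, 1, 1, 0, 1, 1, 0, 1, 1, 0, 1, 1, 1, 1, 0, 1, 1, 0, 1, 1, 1, 1, 0, 1, 1, 0, 1, 1, 1, 1, 0, 1, 1, 0, 1, 1, 0, 1, 1, 1, 1, 0, 1, 1], [1, 0, 1, 1, 0, 1, 0, 1, 0, 1, 1, 0, 1, 0, 1, 1, 0, 1, 0, 1, 1, 0, 1, 0, 1, 0, 1, 1], 4)], [([], [], 6), ([1, 1, 0, 1, 1, 0, 1, 1, 1, 1, 0, 1, 1, 1, 1, 0, 1, 1, 0, 1, 1, 0, 1, 1, 1, 1, 0, 1, 1, 0, 1, 1, 0, 1, 1, 1, 1, 0], [0, 1, 1, 0, 1, 0, 1, 0, 1, 1, 0, 1, 0, 1, 0, 1, 1, 0, 1, 1, 0, 1, 0, 1], 10)]),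
   ([([1, 1], [1], 3), ([0, 1, 1, 0, 1, 1, 0, 1, 1, 0, 1, 1, 1, 1, 0, 1, 1], [1, 0, 1, 1, 0, 1, 0, 1, 0, 1, 0], 5)], [([], [], 2), ([1, 1, 0, 1, 1, 0, 1, 1, 1, 1, 0, 1, 1, 0, 1, 1, 1, 1, 0, 1, 1, 1, 1, 0, 1, 1, 0, 1, 1, 0, 1, 1, 1, 1, 0, 1, 1, 0, 1, 1, 0, 1, 1], [1, 0, 1, 0, 1, 0, 1, 1, 0, 1, 0, 1, 0, 1, 1, 0, 1, 1, 0, 1, 0, 1, 1, 0, 1, 0, 1], 6)]),
   ([([1, 1], [1], 6), ([1, 1, 0, 1, 1, 0, 1, 1, 0, 1, 1, 1, 1, 0, 1, 1], [1, 0, 1, 1, 0, 1, 0, 1, 0, 1], 10)], [([], [], 1), ([0, 1, 1, 1, 1, 0, 1, 1, 1, 1, 0, 1, 1, 0, 1, 1, 1, 1, 0, 1, 1, 0, 1, 1, 0, 1, 1], [1, 0, 1, 0, 1, 0, 1, 1, 0, 1, 0, 1, 1, 0, 1, 1, 0], 17)]),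
   ([([1, 1], [1], 7), ([1, 1, 1, 1, 0, 1, 1, 0, 1, 1, 0, 1, 1, 1, 1, 0, 1, 1, 0, 1, 1, 1, 1, 0, 1, 1, 0, 1, 1, 1, 1, 0, 1, 1, 0, 1, 1, 0, 1, 1, 1, 1, 0, 1, 1], [1, 0, 1, 1, 0, 1, 0, 1, 0, 1, 1, 0, 1, 0, 1, 1, 0, 1, 0, 1, 1, 0, 1, 0, 1, 0, 1, 1], 14)], [([], [], 2), ([0, 1, 1, 1, 1, 0, 1, 1, 1, 1, 0, 1, 1, 0, 1, 1, 0, 1, 1, 1, 1, 0, 1, 1, 0, 1, 1, 1, 1, 0, 1, 1, 1, 1, 0, 1, 1, 0], [0, 1, 0, 1, 1, 0, 1, 1, 0, 1, 0, 1, 1, 0, 1, 0, 1, 0, 1, 1, 0, 1, 1, 0], 5)]),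
   ([([1, 1], [1], 4), ([1, 1, 0, 1, 1, 1, 1, 0, 1, 1, 0, 1, 1, 1, 1, 0, 1, 1, 1, 1, 0, 1, 1, 0, 1, 1, 0, 1, 1, 1, 1, 0, 1, 1, 1, 1, 0, 1, 1, 0, 1, 1, 1, 1, 0], [0, 1, 1, 0, 1, 0, 1, 1, 0, 1, 1, 0, 1, 0, 1, 0, 1, 1, 0, 1, 1, 0, 1, 0, 1, 1, 0, 1], 1)], [([], [], 9), ([1, 1, 0, 1, 1], [1, 0, 1], 4)]),
   ([([1, 1], [1], 1), ([1, 1, 0, 1, 1, 1, 1, 0, 1, 1, 1, 1, 0, 1, 1, 0, 1, 1, 1, 1, 0, 1, 1, 0, 1, 1, 1, 1, 0, 1, 1, 0, 1, 1, 1, 1, 0, 1, 1, 1, 1, 0, 1, 1, 0, 1, 1], [1, 0, 1, 0, 1, 1, 0, 1, 1, 0, 1, 0, 1, 1, 0, 1, 0, 1, 1, 0, 1, 0, 1, 1, 0, 1, 1, 0, 1], 2)], [([], [], 2), ([0, 1, 1, 1, 1, 0, 1, 1, 1, 1, 0, 1, 1, 0, 1, 1, 1, 1, 0, 1, 1, 0, 1, 1, 0, 1, 1], [1, 0, 1, 0, 1, 0, 1, 1, 0, 1, 0, 1, 1, 0, 1, 1, 0], 15)]),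
   ([([1, 1], [1], 1), ([0, 1, 1, 0, 1, 1, 0, 1, 1, 0, 1, 1, 1, 1, 0, 1, 1], [1, 0, 1, 1, 0, 1, 0, 1, 0, 1, 0], 8)], [([], [], 3), ([0, 1, 1, 1, 1, 0, 1, 1, 1, 1, 0, 1, 1, 0, 1, 1, 1, 1, 0, 1, 1, 0, 1, 1, 0, 1, 1], [1, 0, 1, 0, 1, 0, 1, 1, 0, 1, 0, 1, 1, 0, 1, 1, 0], 13)]),
   ([([1, 1], [1], 2), ([0, 1, 1, 0, 1, 1, 0, 1, 1, 0, 1, 1, 1, 1, 0, 1, 1], [1, 0, 1, 1, 0, 1, 0, 1, 0, 1, 0], 16)], [([], [], 6), ([0, 1, 1, 1, 1, 0, 1, 1, 1, 1, 0, 1, 1, 0, 1, 1, 1, 1, 0, 1, 1, 0, 1, 1, 0, 1, 1], [1, 0, 1, 0, 1, 0, 1, 1, 0, 1, 0, 1, 1, 0, 1, 1, 0], 7)])]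

theorem jansyl19_ok : CosetCert.ONP.groupOK jankey jansyl19 = true := by decide +kernel

theorem janfac19_ok : CosetCert.ONP.genOKAll jankey 19 jansyl19 janfac19 = true := by
  decide +kernel


end CfsgLib.Sporadic.CosetCert.ONSubData
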