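import Cfsg.Agent.Lib.Sporadic.ONSubData.janRowData
import Cfsg.Agent.Lib.Sporadic.ONData.ONFast

/-!
# Checks of the product row

Machine-generated data and the kernel checks on it.
-/

set_option maxRecDepth 100000
set_option Elab.async false

namespace CfsgLib.Sporadic.CosetCert.ONSubData

theorem janrow_0 : CosetCert.PTab.eqL [ONData.fast3, ONData.fast4, ONData.fast5, ONData.fast1, ONData.fast6, ONData.fast0, ONData.fast4, ONData.fast5, ONData.fast6, ONData.fast5, ONData.fast3, ONData.fast2, ONData.fast5, ONData.fast4, ONData.fast1, ONData.fast6, ONData.fast0, ONData.fast5, ONData.fast4, ONData.fast3] janrowY 0 4000 = true := by decide +kernel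
theorem janrow_1 : CosetCert.PTab.eqL [ONData.fast3, ONData.fast4, ONData.fast5, ONData.fast1, ONData.fast6, ONData.fast0, ONData.fast4, ONData.fast5, ONData.fast6, ONData.fast5, ONData.fast3, ONData.fast2, ONData.fast5, ONData.fast4, ONData.fast1, ONData.fast6, ONData.fast0, ONData.fast5, ONData.fast4, ONData.fast3] janrowY 4000 4000 = true := by decide +kernel
theorem janrow_2 : CosetCert.PTab.eqL [ONData.fast3, ONData.fast4, ONData.fast5, ONData.fast1, ONData.fast6, ONData.fast0, ONData.fast4, ONData.fast5, ONData.fast6, ONData.fast5, ONData.fast3, ONData.fast2, ONData.fast5, ONData.fast4, ONData.fast1, ONData.fast6, ONData.fast0, ONData.fast5, ONData.fast4, ONData.fast3] janrowY 8000 4000 = true := by decide +kernel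
theorem janrow_3 : CosetCert.PTab.eqL [ONData.fast3, ONData.fast4, ONData.fast5, ONData.fast1, ONData.fast6, ONData.fast0, ONData.fast4, ONData.fast5, ONData.fast6, ONData.fast5, ONData.fast3, ONData.fast2, ONData.fast5, ONData.fast4, ONData.fast1, ONData.fast6, ONData.fast0, ONData.fast5, ONData.fast4, ONData.fast3] janrowY 12000 4000 = true := by decide +kernel
theorem janrow_4 : CosetCert.PTab.eqL [ONData.fast3, ONData.fast4, ONData.fast5, ONData.fast1, ONData.fast6, ONData.fast0, ONData.fast4, ONData.fast5, ONData.fast6, ONData.fast5, ONData.fast3, ONData.fast2, ONData.fast5, ONData.fast4, ONData.fast1, ONData.fast6, ONData.fast0, ONData.fast5, ONData.fast4, ONData.fast3] janrowY 16000 4000 = true := by decide +kernel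
theorem janrow_5 : CosetCert.PTab.eqL [ONData.fast3, ONData.fast4, ONData.fast5, ONData.fast1, ONData.fast6, ONData.fast0, ONData.fast4, ONData.fast5, ONData.fast6, ONData.fast5, ONData.fast3, ONData.fast2, ONData.fast5, ONData.fast4, ONData.fast1, ONData.fast6, ONData.fast0, ONData.fast5, ONData.fast4, ONData.fast3] janrowY 20000 4000 = true := by decide +kernel
theorem janrow_6 : CosetCert.PTab.eqL [ONData.fast3, ONData.fast4, ONData.fast5, ONData.fast1, ONData.fast6, ONData.fast0, ONData.fast4, ONData.fast5, ONData.fast6, ONData.fast5, ONData.fast3, ONData.fast2, ONData.fast5, ONData.fast4, ONData.fast1, ONData.fast6, ONData.fast0, ONData.fast5, ONData.fast4, ONData.fast3] janrowY 24000 4000 = true := by decide +kernel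
theorem janrow_7 : CosetCert.PTab.eqL [ONData.fast3, ONData.fast4, ONData.fast5, ONData.fast1, ONData.fast6, ONData.fast0, ONData.fast4, ONData.fast5, ONData.fast6, ONData.fast5, ONData.fast3, ONData.fast2, ONData.fast5, ONData.fast4, ONData.fast1, ONData.fast6, ONData.fast0, ONData.fast5, ONData.fast4, ONData.fast3] janrowY 28000 4000 = true := by decide +kernel
theorem janrow_8 : CosetCert.PTab.eqL [ONData.fast3, ONData.fast4, ONData.fast5, ONData.fast1, ONData.fast6, ONData.fast0, ONData.fast4, ONData.fast5, ONData.fast6, ONData.fast5, ONData.fast3, ONData.fast2, ONData.fast5, ONData.fast4, ONData.fast1, ONData.fast6, ONData.fast0, ONData.fast5, ONData.fast4, ONData.fast3] janrowY 32000 4000 = true := by decide +kernel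
theorem janrow_9 : CosetCert.PTab.eqL [ONData.fast3, ONData.fast4, ONData.fast5, ONData.fast1, ONData.fast6, ONData.fast0, ONData.fast4, ONData.fast5, ONData.fast6, ONData.fast5, ONData.fast3, ONData.fast2, ONData.fast5, ONData.fast4, ONData.fast1, ONData.fast6, ONData.fast0, ONData.fast5, ONData.fast4, ONData.fast3] janrowY 36000 4000 = true := by decide +kernel
theorem janrow_10 : CosetCert.PTab.eqL [ONData.fast3, ONData.fast4, ONData.fast5, ONData.fast1, ONData.fast6, ONData.fast0, ONData.fast4, ONData.fast5, ONData.fast6, ONData.fast5, ONData.fast3, ONData.fast2, ONData.fast5, ONData.fast4, ONData.fast1, ONData.fast6, ONData.fast0, ONData.fast5, ONData.fast4, ONData.fast3] janrowY 40000 4000 = true := by decide +kernel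
theorem janrow_11 : CosetCert.PTab.eqL [ONData.fast3, ONData.fast4, ONData.fast5, ONData.fast1, ONData.fast6, ONData.fast0, ONData.fast4, ONData.fast5, ONData.fast6, ONData.fast5, ONData.fast3, ONData.fast2, ONData.fast5, ONData.fast4, ONData.fast1, ONData.fast6, ONData.fast0, ONData.fast5, ONData.fast4, ONData.fast3] janrowY 44000 4000 = true := by decide +kernel
theorem janrow_12 : CosetCert.PTab.eqL [ONData.fast3, ONData.fast4, ONData.fast5, ONData.fast1, ONData.fast6, ONData.fast0, ONData.fast4, ONData.fast5, ONData.fast6, ONData.fast5, ONData.fast3, ONData.fast2, ONData.fast5, ONData.fast4, ONData.fast1, ONData.fast6, ONData.fast0, ONData.fast5, ONData.fast4, ONData.fast3] janrowY 48000 4000 = true := by decide +kernel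
theorem janrow_13 : CosetCert.PTab.eqL [ONData.fast3, ONData.fast4, ONData.fast5, ONData.fast1, ONData.fast6, ONData.fast0, ONData.fast4, ONData.fast5, ONData.fast6, ONData.fast5, ONData.fast3, ONData.fast2, ONData.fast5, ONData.fast4, ONData.fast1, ONData.fast6, ONData.fast0, ONData.fast5, ONData.fast4, ONData.fast3] janrowY 52000 4000 = true := by decide +kernel
theorem janrow_14 : CosetCert.PTab.eqL [ONData.fast3, ONData.fast4, ONData.fast5, ONData.fast1, ONData.fast6, ONData.fast0, ONData.fast4, ONData.fast5, ONData.fast6, ONData.fast5, ONData.fast3, ONData.fast2, ONData.fast5, ONData.fast4, ONData.fast1, ONData.fast6, ONData.fast0, ONData.fast5, ONData.fast4, ONData.fast3] janrowY 56000 4000 = true := by decide +kernel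

end CfsgLib.Sporadic.CosetCert.ONSubData
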