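import Cfsg.Agent.Lib.Sporadic.ONSubData.matCoords
import Cfsg.Agent.Lib.Sporadic.ONSubData.matMaps
import Cfsg.Agent.Lib.Sporadic.ONTriples

/-!
# Closure of the nodes of mat

Machine-generated data and the kernel checks on it.
-/

set_option maxRecDepth 100000
set_option Elab.async false

namespace CfsgLib.Sporadic.CosetCert.ONSubData

theorem matstepY2_0 : CosetCert.ONP.stepT [ONData.fast7, ONData.fast6, ONData.fast3, ONData.fast2, ONData.fast6, ONData.fast7, ONData.fast4, ONData.fast7, ONData.fast3, ONData.fast0, ONData.fast4, ONData.fast6, ONData.fast5, ONData.fast4, ONData.fast2, ONData.fast5, ONData.fast6, ONData.fast5, ONData.fast6, ONData.fast4, ONData.fast3, ONData.fast2, ONData.fast0, ONData.fast4, ONData.fast1, ONData.fast3, ONData.fast6, ONData.fast5, ONData.fast6, ONData.fast4, ONData.fast3, ONData.fast2, ONData.fast0, ONData.fast4, ONData.fast1, ONData.fast3, ONData.fast6, ONData.fast5, ONData.fast6, ONData.fast4, ONData.fast3, ONData.fast2, ONData.fast0, ONData.fast4, ONData.fast1, ONData.fast3, ONData.fast6, ONData.fast5, ONData.fast6,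 ONData.fast4, ONData.fast3, ONData.fast2, ONData.fast0, ONData.fast4, ONData.fast1, ONData.fast3, ONData.fast5, ONData.fast2, ONData.fast4, ONData.fast5, ONData.fast6, ONData.fast4, ONData.fast1, ONData.fast3, ONData.fast7, ONData.fast4, ONData.fast7, ONData.fast6, ONData.fast2, ONData.fast3, ONData.fast6, ONData.fast7] matc2 matnY 7920 0 1000 = true := by decide +kernel
theorem matstepY2_1 : CosetCert.ONP.stepT [ONData.fast7, ONData.fast6, ONData.fast3, ONData.fast2, ONData.fast6, ONData.fast7, ONData.fast4, ONData.fast7, ONData.fast3, ONData.fast0, ONData.fast4, ONData.fast6, ONData.fast5, ONData.fast4, ONData.fast2, ONData.fast5, ONData.fast6, ONData.fast5, ONData.fast6, ONData.fast4, ONData.fast3, ONData.fast2, ONData.fast0, ONData.fast4, ONData.fast1, ONData.fast3, ONData.fast6, ONData.fast5, ONData.fast6, ONData.fast4, ONData.fast3, ONData.fast2, ONData.fast0, ONData.fast4, ONData.fast1, ONData.fast3, ONData.fast6, ONData.fast5, ONData.fast6, ONData.fast4, ONData.fast3, ONData.fast2, ONData.fast0, ONData.fast4, ONData.fast1, ONData.fast3,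 ONData.fast6, ONData.fast5, ONData.fast6, ONData.fast4, ONData.fast3, ONData.fast2, ONData.fast0, ONData.fast4, ONData.fast1, ONData.fast3, ONData.fast5, ONData.fast2, ONData.fast4, ONData.fast5, ONData.fast6, ONData.fast4, ONData.fast1, ONData.fast3, ONData.fast7, ONData.fast4, ONData.fast7, ONData.fast6, ONData.fast2, ONData.fast3, ONData.fast6, ONData.fast7] matc2 matnY 7920 1000 1000 = true := by decide +kernel
theorem matstepY2_2 : CosetCert.ONP.stepT [ONData.fast7, ONData.fast6, ONData.fast3, ONData.fast2, ONData.fast6, ONData.fast7, ONData.fast4, ONData.fast7, ONData.fast3, ONData.fast0, ONData.fast4, ONData.fast6, ONData.fast5, ONData.fast4, ONData.fast2, ONData.fast5, ONData.fast6, ONData.fast5, ONData.fast6, ONData.fast4, ONData.fast3, ONData.fast2, ONData.fast0, ONData.fast4, ONData.fast1, ONData.fast3, ONData.fast6, ONData.fast5, ONData.fast6, ONData.fast4, ONData.fast3, ONData.fast2, ONData.fast0, ONData.fast4, ONData.fast1, ONData.fast3, ONData.fast6, ONData.fast5, ONData.fast6, ONData.fast4, ONData.fast3, ONData.fast2, ONData.fast0,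 ONData.fast4, ONData.fast1, ONData.fast3, ONData.fast6, ONData.fast5, ONData.fast6, ONData.fast4, ONData.fast3, ONData.fast2, ONData.fast0, ONData.fast4, ONData.fast1, ONData.fast3, ONData.fast5, ONData.fast2, ONData.fast4, ONData.fast5, ONData.fast6, ONData.fast4, ONData.fast1, ONData.fast3, ONData.fast7, ONData.fast4, ONData.fast7, ONData.fast6, ONData.fast2, ONData.fast3, ONData.fast6, ONData.fast7] matc2 matnY 7920 2000 1000 = true := by decide +kernel
theorem matstepY2_3 : CosetCert.ONP.stepT [ONData.fast7, ONData.fast6, ONData.fast3, ONData.fast2, ONData.fast6, ONData.fast7, ONData.fast4, ONData.fast7, ONData.fast3, ONData.fast0, ONData.fast4, ONData.fast6, ONData.fast5, ONData.fast4, ONData.fast2, ONData.fast5, ONData.fast6, ONData.fast5, ONData.fast6, ONData.fast4, ONData.fast3, ONData.fast2, ONData.fast0, ONData.fast4, ONData.fast1, ONData.fast3, ONData.fast6, ONData.fast5, ONData.fast6, ONData.fast4, ONData.fast3, ONData.fast2, ONData.fast0, ONData.fast4, ONData.fast1, ONData.fast3, ONData.fast6, ONData.fast5, ONData.fast6, ONData.fast4,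 ONData.fast3, ONData.fast2, ONData.fast0, ONData.fast4, ONData.fast1, ONData.fast3, ONData.fast6, ONData.fast5, ONData.fast6, ONData.fast4, ONData.fast3, ONData.fast2, ONData.fast0, ONData.fast4, ONData.fast1, ONData.fast3, ONData.fast5, ONData.fast2, ONData.fast4, ONData.fast5, ONData.fast6, ONData.fast4, ONData.fast1, ONData.fast3, ONData.fast7, ONData.fast4, ONData.fast7, ONData.fast6, ONData.fast2, ONData.fast3, ONData.fast6, ONData.fast7] matc2 matnY 7920 3000 1000 = true := by decide +kernel
theorem matstepY2_4 : CosetCert.ONP.stepT [ONData.fast7, ONData.fast6, ONData.fast3, ONData.fast2, ONData.fast6, ONData.fast7, ONData.fast4, ONData.fast7, ONData.fast3, ONData.fast0, ONData.fast4, ONData.fast6, ONData.fast5, ONData.fast4, ONData.fast2, ONData.fast5, ONData.fast6, ONData.fast5, ONData.fast6, ONData.fast4, ONData.fast3, ONData.fast2, ONData.fast0, ONData.fast4, ONData.fast1, ONData.fast3, ONData.fast6, ONData.fast5, ONData.fast6, ONData.fast4, ONData.fast3, ONData.fast2, ONData.fast0, ONData.fast4, ONData.fast1, ONData.fast3, ONData.fast6,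 ONData.fast5, ONData.fast6, ONData.fast4, ONData.fast3, ONData.fast2, ONData.fast0, ONData.fast4, ONData.fast1, ONData.fast3, ONData.fast6, ONData.fast5, ONData.fast6, ONData.fast4, ONData.fast3, ONData.fast2, ONData.fast0, ONData.fast4, ONData.fast1, ONData.fast3, ONData.fast5, ONData.fast2, ONData.fast4, ONData.fast5, ONData.fast6, ONData.fast4, ONData.fast1, ONData.fast3, ONData.fast7, ONData.fast4, ONData.fast7, ONData.fast6, ONData.fast2, ONData.fast3, ONData.fast6, ONData.fast7] matc2 matnY 7920 4000 1000 = true := by decide +kernel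
theorem matstepY2_5 : CosetCert.ONP.stepT [ONData.fast7, ONData.fast6, ONData.fast3, ONData.fast2, ONData.fast6, ONData.fast7, ONData.fast4, ONData.fast7, ONData.fast3, ONData.fast0, ONData.fast4, ONData.fast6, ONData.fast5, ONData.fast4, ONData.fast2, ONData.fast5, ONData.fast6, ONData.fast5, ONData.fast6, ONData.fast4, ONData.fast3, ONData.fast2, ONData.fast0, ONData.fast4, ONData.fast1, ONData.fast3, ONData.fast6, ONData.fast5, ONData.fast6, ONData.fast4, ONData.fast3, ONData.fast2, ONData.fast0, ONData.fast4, ONData.fast1, ONData.fast3, ONData.fast6, ONData.fast5, ONData.fast6, ONData.fast4, ONData.fast3, ONData.fast2, ONData.fast0, ONData.fast4, ONData.fast1, ONData.fast3, ONData.fast6, ONData.fast5, ONData.fast6, ONData.fast4, ONData.fast3, ONData.fast2, ONData.fast0, ONData.fast4, ONData.fast1, ONData.fast3, ONData.fast5, ONData.fast2, ONData.fast4, ONData.fast5, ONData.fast6, ONData.fast4, ONData.fast1, ONData.fast3, ONData.fast7, ONData.fast4, ONData.fast7, ONData.fast6, ONData.fast2, ONData.fast3, ONData.fast6, ONData.fast7] matc2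 matnY 7920 5000 1000 = true := by decide +kernel
theorem matstepY2_6 : CosetCert.ONP.stepT [ONData.fast7, ONData.fast6, ONData.fast3, ONData.fast2, ONData.fast6, ONData.fast7, ONData.fast4, ONData.fast7, ONData.fast3, ONData.fast0, ONData.fast4, ONData.fast6, ONData.fast5, ONData.fast4, ONData.fast2, ONData.fast5, ONData.fast6, ONData.fast5, ONData.fast6, ONData.fast4, ONData.fast3, ONData.fast2, ONData.fast0, ONData.fast4, ONData.fast1, ONData.fast3, ONData.fast6, ONData.fast5, ONData.fast6, ONData.fast4, ONData.fast3, ONData.fast2, ONData.fast0, ONData.fast4, ONData.fast1, ONData.fast3, ONData.fast6, ONData.fast5, ONData.fast6, ONData.fast4, ONData.fast3, ONData.fast2, ONData.fast0, ONData.fast4, ONData.fast1, ONData.fast3, ONData.fast6, ONData.fast5, ONData.fast6, ONData.fast4, ONData.fast3, ONData.fast2, ONData.fast0, ONData.fast4, ONData.fast1, ONData.fast3, ONData.fast5, ONData.fast2, ONData.fast4, ONData.fast5, ONData.fast6, ONData.fast4, ONData.fast1, ONData.fast3, ONData.fast7, ONData.fast4, ONData.fast7, ONData.fast6, ONData.fast2,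 ONData.fast3, ONData.fast6, ONData.fast7] matc2 matnY 7920 6000 1000 = true := by decide +kernel
theorem matstepY2_7 : CosetCert.ONP.stepT [ONData.fast7, ONData.fast6, ONData.fast3, ONData.fast2, ONData.fast6, ONData.fast7, ONData.fast4, ONData.fast7, ONData.fast3, ONData.fast0, ONData.fast4, ONData.fast6, ONData.fast5, ONData.fast4, ONData.fast2, ONData.fast5, ONData.fast6, ONData.fast5, ONData.fast6, ONData.fast4, ONData.fast3, ONData.fast2, ONData.fast0, ONData.fast4, ONData.fast1, ONData.fast3, ONData.fast6, ONData.fast5, ONData.fast6, ONData.fast4, ONData.fast3, ONData.fast2, ONData.fast0, ONData.fast4, ONData.fast1, ONData.fast3, ONData.fast6, ONData.fast5, ONData.fast6, ONData.fast4, ONData.fast3, ONData.fast2, ONData.fast0, ONData.fast4, ONData.fast1, ONData.fast3, ONData.fast6, ONData.fast5, ONData.fast6, ONData.fast4, ONData.fast3, ONData.fast2, ONData.fast0, ONData.fast4, ONData.fast1, ONData.fast3, ONData.fast5, ONData.fast2, ONData.fast4, ONData.fast5, ONData.fast6, ONData.fast4, ONData.fast1, ONData.fast3, ONData.fast7, ONData.fast4,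 ONData.fast7, ONData.fast6, ONData.fast2, ONData.fast3, ONData.fast6, ONData.fast7] matc2 matnY 7920 7000 920 = true := by decide +kernel

end CfsgLib.Sporadic.CosetCert.ONSubData
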