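import Cfsg.Agent.Lib.Sporadic.ONSubData.matStepX0
import Cfsg.Agent.Lib.Sporadic.ONSubData.matStepY0
import Cfsg.Agent.Lib.Sporadic.ONSubData.matStepX1
import Cfsg.Agent.Lib.Sporadic.ONSubData.matStepY1
import Cfsg.Agent.Lib.Sporadic.ONSubData.matStepX2
import Cfsg.Agent.Lib.Sporadic.ONSubData.matStepY2
import Cfsg.Agent.Lib.Sporadic.ONSubData.matCoords
import Cfsg.Agent.Lib.Sporadic.ONSubData.matMaps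
import Cfsg.Agent.Lib.Sporadic.ONData.ONFastChecks

/-!
# The subgroup mat

Machine-generated data and the kernel checks on it.
-/

set_option maxRecDepth 100000
set_option Elab.async false

namespace CfsgLib.Sporadic.CosetCert.ONSubData

/-- The first generator of mat. -/
def matX : List ℕ := [2]

/-- The second generator of mat. -/
def matY : List ℕ := [7, 6, 3, 2, 6, 7, 4, 7, 3, 0, 4, 6, 5, 4, 2, 5, 6, 5, 6, 4, 3, 2, 0, 4, 1, 3, 6, 5, 6, 4, 3, 2, 0, 4, 1, 3, 6, 5, 6, 4, 3, 2, 0, 4, 1, 3, 6, 5, 6, 4, 3, 2, 0, 4, 1, 3, 5, 2, 4, 5, 6, 4, 1, 3, 7, 4, 7, 6, 2, 3, 6, 7]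

/-- The coordinates of the nodes of mat. -/
noncomputable def matc (i : Fin 3) : ℕ → ℕ :=
  match i with
  | 0 => matc0
  | 1 => matc1
  | 2 => matc2

theorem matX_lt : ∀ x ∈ matX, x < ONData.table.nl := by decide +kernel

theorem matY_lt : ∀ x ∈ matY, x < ONData.table.nl := by decide +kernel

theorem matbase : ∀ i, matc i 0 = CosetCert.ONP.bases.getD i 0 := by decide +kernel

theorem matstepX : ∀ i, ∀ n < 7920, ONData.table.imgW matX (matc i n) = matc i (matnX n) ∧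
    matc i n < ONData.table.N ∧ matnX n < 7920 := by
  intro i n hn
  have hstep : CosetCert.PTab.runL [ONData.fast2] (matc i n) = matc i (matnX n) ∧
      matc i n < 122760 ∧ matnX n < 7920 :=
    match i with
    | 0 => (CosetCert.range_split (CosetCert.range_split (CosetCert.range_split (CosetCert.ONP.stepT_spec matstepX0_0) (CosetCert.ONP.stepT_spec matstepX0_1)) (CosetCert.range_split (CosetCert.ONP.stepT_spec matstepX0_2) (CosetCert.ONP.stepT_spec matstepX0_3))) (CosetCert.range_split (CosetCert.range_split (CosetCert.ONP.stepT_spec matstepX0_4) (CosetCert.ONP.stepT_spec matstepX0_5)) (CosetCert.range_split (CosetCert.ONP.stepT_spec matstepX0_6) (CosetCert.ONP.stepT_spec matstepX0_7)))) n (Nat.zero_le _) hn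
    | 1 => (CosetCert.range_split (CosetCert.range_split (CosetCert.range_split (CosetCert.ONP.stepT_spec matstepX1_0) (CosetCert.ONP.stepT_spec matstepX1_1)) (CosetCert.range_split (CosetCert.ONP.stepT_spec matstepX1_2) (CosetCert.ONP.stepT_spec matstepX1_3))) (CosetCert.range_split (CosetCert.range_split (CosetCert.ONP.stepT_spec matstepX1_4) (CosetCert.ONP.stepT_spec matstepX1_5)) (CosetCert.range_split (CosetCert.ONP.stepT_spec matstepX1_6) (CosetCert.ONP.stepT_spec matstepX1_7)))) n (Nat.zero_le _) hn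
    | 2 => (CosetCert.range_split (CosetCert.range_split (CosetCert.range_split (CosetCert.ONP.stepT_spec matstepX2_0) (CosetCert.ONP.stepT_spec matstepX2_1)) (CosetCert.range_split (CosetCert.ONP.stepT_spec matstepX2_2) (CosetCert.ONP.stepT_spec matstepX2_3))) (CosetCert.range_split (CosetCert.range_split (CosetCert.ONP.stepT_spec matstepX2_4) (CosetCert.ONP.stepT_spec matstepX2_5)) (CosetCert.range_split (CosetCert.ONP.stepT_spec matstepX2_6) (CosetCert.ONP.stepT_spec matstepX2_7)))) n (Nat.zero_le _) hn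
  have hlt : matc i n < ONData.table.N := hstep.2.1
  exact ⟨((ONData.imgW_fast [2] (by decide) _ hlt).1).trans hstep.1, hlt, hstep.2.2⟩

theorem matstepY : ∀ i, ∀ n < 7920, ONData.table.imgW matY (matc i n) = matc i (matnY n) ∧
    matc i n < ONData.table.N ∧ matnY n < 7920 := by
  intro i n hn
  have hstep : CosetCert.PTab.runL [ONData.fast7, ONData.fast6, ONData.fast3, ONData.fast2, ONData.fast6, ONData.fast7, ONData.fast4, ONData.fast7, ONData.fast3, ONData.fast0, ONData.fast4, ONData.fast6, ONData.fast5, ONData.fast4, ONData.fast2, ONData.fast5, ONData.fast6, ONData.fast5, ONData.fast6, ONData.fast4, ONData.fast3, ONData.fast2, ONData.fast0, ONData.fast4, ONData.fast1, ONData.fast3, ONData.fast6, ONData.fast5, ONData.fast6, ONData.fast4, ONData.fast3, ONData.fast2, ONData.fast0,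 ONData.fast4, ONData.fast1, ONData.fast3, ONData.fast6, ONData.fast5, ONData.fast6, ONData.fast4, ONData.fast3, ONData.fast2, ONData.fast0, ONData.fast4, ONData.fast1, ONData.fast3, ONData.fast6, ONData.fast5, ONData.fast6, ONData.fast4, ONData.fast3, ONData.fast2, ONData.fast0, ONData.fast4, ONData.fast1, ONData.fast3, ONData.fast5, ONData.fast2, ONData.fast4, ONData.fast5, ONData.fast6, ONData.fast4, ONData.fast1, ONData.fast3, ONData.fast7, ONData.fast4, ONData.fast7, ONData.fast6, ONData.fast2, ONData.fast3, ONData.fast6, ONData.fast7] (matc i n) = matc i (matnY n) ∧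
      matc i n < 122760 ∧ matnY n < 7920 :=
    match i with
    | 0 => (CosetCert.range_split (CosetCert.range_split (CosetCert.range_split (CosetCert.ONP.stepT_spec matstepY0_0) (CosetCert.ONP.stepT_spec matstepY0_1)) (CosetCert.range_split (CosetCert.ONP.stepT_spec matstepY0_2) (CosetCert.ONP.stepT_spec matstepY0_3))) (CosetCert.range_split (CosetCert.range_split (CosetCert.ONP.stepT_spec matstepY0_4) (CosetCert.ONP.stepT_spec matstepY0_5)) (CosetCert.range_split (CosetCert.ONP.stepT_spec matstepY0_6) (CosetCert.ONP.stepT_spec matstepY0_7)))) n (Nat.zero_le _) hn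
    | 1 => (CosetCert.range_split (CosetCert.range_split (CosetCert.range_split (CosetCert.ONP.stepT_spec matstepY1_0) (CosetCert.ONP.stepT_spec matstepY1_1)) (CosetCert.range_split (CosetCert.ONP.stepT_spec matstepY1_2) (CosetCert.ONP.stepT_spec matstepY1_3))) (CosetCert.range_split (CosetCert.range_split (CosetCert.ONP.stepT_spec matstepY1_4) (CosetCert.ONP.stepT_spec matstepY1_5)) (CosetCert.range_split (CosetCert.ONP.stepT_spec matstepY1_6) (CosetCert.ONP.stepT_spec matstepY1_7)))) n (Nat.zero_le _) hn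
    | 2 => (CosetCert.range_split (CosetCert.range_split (CosetCert.range_split (CosetCert.ONP.stepT_spec matstepY2_0) (CosetCert.ONP.stepT_spec matstepY2_1)) (CosetCert.range_split (CosetCert.ONP.stepT_spec matstepY2_2) (CosetCert.ONP.stepT_spec matstepY2_3))) (CosetCert.range_split (CosetCert.range_split (CosetCert.ONP.stepT_spec matstepY2_4) (CosetCert.ONP.stepT_spec matstepY2_5)) (CosetCert.range_split (CosetCert.ONP.stepT_spec matstepY2_6) (CosetCert.ONP.stepT_spec matstepY2_7)))) n (Nat.zero_le _) hn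
  have hlt : matc i n < ONData.table.N := hstep.2.1
  exact ⟨((ONData.imgW_fast [7, 6, 3, 2, 6, 7, 4, 7, 3, 0, 4, 6, 5, 4, 2, 5, 6, 5, 6, 4, 3, 2, 0, 4, 1, 3, 6, 5, 6, 4, 3, 2, 0, 4, 1, 3, 6, 5, 6, 4, 3, 2, 0, 4, 1, 3, 6, 5, 6, 4, 3, 2, 0, 4, 1, 3, 5, 2, 4, 5, 6, 4, 1, 3, 7, 4, 7, 6, 2, 3, 6, 7] (by decide) _ hlt).1).trans hstep.1, hlt, hstep.2.2⟩

/-- The key of a word in the generators of mat. -/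
noncomputable def matkey (w : List ℕ) : List ℕ :=
  [matc0 (CosetCert.ONP.node matnX matnY w 0), matc1 (CosetCert.ONP.node matnX matnY w 0),
    matc2 (CosetCert.ONP.node matnX matnY w 0)]

theorem matkey_eq (w : List ℕ) :
    CosetCert.ONP.key (CosetCert.ONP.spell matX matY w) = matkey w :=
  CosetCert.ONP.key_spell matc matnX matnY (by norm_num) matbase matstepX matstepY w

theorem matcard_le :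
    Nat.card (CosetCert.ONP.gen2 matX matY) ≤ 7920 :=
  CosetCert.ONP.card_gen2_le matX_lt matY_lt matc matnX matnY (b := 0) (by norm_num)
    matbase matstepX matstepY

/-- A Sylow 2-subgroup of mat. -/
def matsyl2 : List (List ℕ) :=
  [[],
   [0, 1, 1, 0, 1, 1, 0, 1, 1],
   [0, 1, 1, 0],
   [1, 1, 0, 1, 1],
   [0, 1, 1, 0, 1, 1, 0, 1, 0, 1, 0, 1, 1, 1, 0, 1],
   [1, 1, 1, 0, 1, 0, 1, 1, 1, 0, 1],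
   [1, 1, 0, 1, 0, 1, 0, 1, 1, 1, 0, 1],
   [0, 1, 1, 0, 1, 1, 1, 0, 1, 0, 1, 1, 1, 0, 1],
   [0, 1, 1, 1, 0, 1, 0, 1, 1, 1, 0, 1, 1, 1],
   [0, 1, 1, 0, 1, 0, 1, 0, 1, 1, 1, 0, 1, 1, 1, 0],
   [0, 1, 0, 1, 0, 1, 1, 1, 0, 1, 1, 1],
   [1, 0, 1, 0, 1, 1, 1, 0, 1, 1, 1, 0],
   [1, 1, 0, 1, 1, 1, 0, 1, 0, 1, 1, 1, 0, 1, 0],
   [0, 1, 1, 0, 1, 0, 1, 0, 1, 1, 1, 0, 1, 0],
   [0, 1, 0, 1, 0, 1, 1, 1, 0, 1, 1, 1, 0, 1, 1, 0],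
   [1, 0, 1, 0, 1, 1, 1, 0, 1, 0]]

/-- Generators as products of conjugates of its elements. -/
def matfac2 : List (List (List ℕ × List ℕ × ℕ) × List (List ℕ × List ℕ × ℕ)) :=
  [([], []),
   ([([1, 1, 1, 1, 1, 1, 0, 1, 1, 1, 0, 1, 1, 1, 1, 1, 1, 0, 1, 1, 1, 1, 1, 1, 0, 1, 1, 1], [1, 0, 1, 1, 0, 1, 1, 0, 1, 0, 1, 1], 1)], [([0, 1, 1, 1, 1, 1, 1, 1, 1, 1, 0, 1, 1, 1, 0, 1, 1, 1, 1, 1, 1, 0, 1, 1, 1], [1, 0, 1, 1, 0, 1, 0, 1, 1, 1, 0], 1), ([1, 1, 1, 0, 1, 1, 1, 0, 1, 1, 1, 0, 1, 1, 1, 0, 1, 1, 1, 1, 1, 1, 0, 1, 1, 1, 0, 1, 1, 1, 1, 1, 1, 0, 1, 1, 1], [1, 0, 1, 1, 0, 1, 0, 1, 1, 0, 1, 0, 1, 0, 1, 0, 1], 1)]),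
   ([([1, 1, 1, 0, 1, 1, 1, 1, 1, 1, 0, 1, 1, 1, 1, 1, 1, 1, 1, 1, 0, 1, 1, 1], [1, 0, 1, 1, 1, 0, 1, 1, 0, 1], 1)], [([0, 1, 1, 1, 0, 1, 1, 1, 0, 1, 1, 1, 1, 1, 1, 0, 1, 1, 1], [1, 0, 1, 1, 0, 1, 0, 1, 0], 1), ([0, 1, 1, 1, 1, 1, 1, 0, 1, 1, 1, 0, 1, 1, 1, 1, 1, 1, 0, 1, 1, 1, 1, 1, 1, 1, 1, 1], [1, 1, 1, 0, 1, 1, 0, 1, 0, 1, 1, 0], 1)]),
   ([([1, 1, 1, 1, 1, 1], [1, 1], 1)], [([0, 1, 1, 1, 1, 1, 1, 1, 1, 1, 0, 1, 1, 1, 1, 1, 1, 1, 1, 1, 0, 1, 1, 1, 0], [0, 1, 0, 1, 1, 1, 0, 1, 1, 1, 0], 1), ([1, 1, 1, 0, 1, 1, 1, 1, 1, 1, 0, 1, 1, 1, 0, 1, 1, 1, 0, 1, 1, 1, 0, 1, 1, 1, 1, 1, 1, 1, 1, 1], [1, 1, 1, 0, 1, 0, 1, 0, 1, 0, 1, 1, 0, 1], 1)]),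
   ([([1, 1, 1, 0, 1, 1, 1, 0, 1, 1, 1, 1, 1, 1], [1, 1, 0, 1, 0, 1], 1)], [([0, 1, 1, 1, 1, 1, 1, 1, 1, 1, 0, 1, 1, 1, 1, 1, 1, 0, 1, 1, 1, 0, 1, 1, 1], [1, 0, 1, 0, 1, 1, 0, 1, 1, 1, 0], 1), ([0, 1, 1, 1, 0, 1, 1, 1, 1, 1, 1, 0, 1, 1, 1, 0, 1, 1, 1, 1, 1, 1, 1, 1, 1, 0, 1, 1, 1], [1, 0, 1, 1, 1, 0, 1, 0, 1, 1, 0, 1, 0], 1)]),
   ([([1, 1, 1, 0, 1, 1, 1, 1, 1, 1, 1, 1, 1], [1, 1, 1, 0, 1], 1)], [([0, 1, 1, 1, 0, 1, 1, 1, 0, 1, 1, 1, 1, 1, 1, 1, 1, 1, 0, 1, 1, 1], [1, 0, 1, 1, 1, 0, 1, 0, 1, 0], 1), ([1, 1, 1, 0, 1, 1, 1, 1, 1, 1, 0, 1, 1, 1, 1, 1, 1, 1, 1, 1, 0, 1, 1, 1, 1, 1, 1, 1, 1, 1, 0, 1, 1, 1], [1, 0, 1, 1, 1, 0, 1, 1, 1, 0, 1, 1, 0, 1], 1)]),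
   ([], []),
   ([], []),
   ([], []),
   ([], []),
   ([], []),
   ([], []),
   ([], []),
   ([], []),
   ([], []),
   ([], [])]

theorem matsyl2_ok : CosetCert.ONP.groupOK matkey matsyl2 = true := by decide +kernel

theorem matfac2_ok : CosetCert.ONP.genOKAll matkey 2 matsyl2 matfac2 = true := by
  decide +kernel

/-- A Sylow 3-subgroup of mat. -/
def matsyl3 : List (List ℕ) :=
  [[],
   [1, 1, 0, 1, 0, 1, 0, 1, 1, 0, 1, 1, 1, 0, 1, 0, 1, 1, 0, 1, 0, 1, 0],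
   [1, 0, 1, 1, 1, 0, 1, 1, 1, 0, 1, 1, 0, 1, 0, 1, 0, 1, 0, 1, 1],
   [0, 1, 1, 1, 0, 1, 1, 1, 0, 1, 0, 1, 1, 0, 1, 0, 1, 0, 1, 0],
   [0, 1, 1, 1, 0, 1, 1, 0, 1, 0, 1, 1, 0, 1, 0, 1, 1, 0, 1],
   [1, 0, 1, 1, 0, 1, 1, 1, 0, 1, 0, 1, 0, 1, 0, 1, 0, 1, 1, 0, 1, 0],
   [0, 1, 1, 0, 1, 1, 0, 1, 0, 1, 1, 1, 0, 1, 0, 1, 0, 1, 1, 0],
   [1, 1, 1, 0, 1, 0, 1, 0, 1, 1, 0, 1, 0, 1, 0, 1],
   [0, 1, 1, 0, 1, 0, 1, 1, 0, 1, 0, 1, 1, 0, 1, 1, 0]]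

/-- Generators as products of conjugates of its elements. -/
def matfac3 : List (List (List ℕ × List ℕ × ℕ) × List (List ℕ × List ℕ × ℕ)) :=
  [([], []),
   ([([1, 1, 1, 1, 1, 1, 0, 1, 1, 1, 0], [0, 1, 0, 1, 1], 1), ([1, 1, 1, 1, 1, 1, 0, 1, 1, 1, 1, 1, 1, 1, 1, 1, 0], [0, 1, 1, 1, 0, 1, 1], 2)], [([0, 1, 1, 1], [1, 0], 2), ([1, 1, 1, 0, 1, 1, 1, 0, 1, 1, 1, 1, 1, 1, 1, 1, 1, 0], [0, 1, 1, 1, 0, 1, 0, 1], 1)]),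
   ([([1, 1, 1, 1, 1, 1, 0, 1, 1, 1, 0], [0, 1, 0, 1, 1], 1), ([0, 1, 1, 1, 1, 1, 1, 0, 1, 1, 1, 1, 1, 1, 1, 1, 1, 0], [0, 1, 1, 1, 0, 1, 1, 0], 2)], [([0, 1, 1, 1], [1, 0], 1), ([1, 1, 1, 0, 1, 1, 1, 0, 1, 1, 1, 1, 1, 1, 1, 1, 1, 0], [0, 1, 1, 1, 0, 1, 0, 1], 2)]),
   ([([1, 1, 1, 1, 1, 1, 1, 1, 1, 0, 1, 1, 1, 1, 1, 1, 1, 1, 1], [1, 1, 1, 0, 1, 1, 1], 1), ([1, 1, 1, 1, 1, 1, 1, 1, 1, 0, 1, 1, 1, 1, 1, 1, 0, 1, 1, 1, 0, 1, 1, 1], [1, 0, 1, 0, 1, 1, 0, 1, 1, 1], 2)], [([0, 1, 1, 1, 0, 1, 1, 1, 0, 1, 1, 1, 0, 1, 1, 1, 0], [0, 1, 0, 1, 0, 1, 0, 1, 0], 2), ([1, 1, 1, 0, 1, 1, 1, 0, 1, 1, 1, 1, 1, 1, 0, 1, 1, 1, 0, 1, 1, 1], [1, 0, 1, 0, 1, 1, 0, 1, 0, 1], 1)]),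
   ([([], [], 1), ([0, 1, 1, 1, 1, 1, 1, 1, 1, 1, 0, 1, 1, 1, 1, 1, 1, 1, 1, 1, 0, 1, 1, 1, 0], [0, 1, 0, 1, 1, 1, 0, 1, 1, 1, 0], 2)], [([0, 1, 1, 1, 1, 1, 1, 0, 1, 1, 1], [1, 0, 1, 1, 0], 1), ([0, 1, 1, 1, 1, 1, 1, 1, 1, 1, 0, 1, 1, 1, 0, 1, 1, 1, 1, 1, 1, 1, 1, 1, 0, 1, 1, 1], [1, 0, 1, 1, 1, 0, 1, 0, 1, 1, 1, 0], 2)]),
   ([([1, 1, 1, 1, 1, 1, 1, 1, 1, 0, 1, 1, 1], [1, 0, 1, 1, 1], 1), ([0, 1, 1, 1, 1, 1, 1, 0, 1, 1, 1, 1, 1, 1, 0, 1, 1, 1, 0, 1, 1, 1], [1, 0, 1, 0, 1, 1, 0, 1, 1, 0], 2)], [([0, 1, 1, 1], [1, 0], 1), ([0, 1, 1, 1, 0, 1, 1, 1, 1, 1, 1, 0, 1, 1, 1, 0, 1, 1, 1], [1, 0, 1, 0, 1, 1, 0, 1, 0], 2)]),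
   ([([1, 1, 1, 1, 1, 1, 1, 1, 1, 0, 1, 1, 1, 1, 1, 1, 1, 1, 1], [1, 1, 1, 0, 1, 1, 1], 1), ([0, 1, 1, 1, 1, 1, 1, 1, 1, 1, 0, 1, 1, 1, 1, 1, 1, 0, 1, 1, 1, 0, 1, 1, 1], [1, 0, 1, 0, 1, 1, 0, 1, 1, 1, 0], 2)], [([0, 1, 1, 1, 0, 1, 1, 1, 0, 1, 1, 1, 0, 1, 1, 1, 0], [0, 1, 0, 1, 0, 1, 0, 1, 0], 1), ([1, 1, 1, 0, 1, 1, 1, 0, 1, 1, 1, 1, 1, 1, 0, 1, 1, 1, 0, 1, 1, 1], [1, 0, 1, 0, 1, 1, 0, 1, 0, 1], 2)]),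
   ([([1, 1, 1, 1, 1, 1, 1, 1, 1, 0, 1, 1, 1], [1, 0, 1, 1, 1], 1), ([1, 1, 1, 1, 1, 1, 0, 1, 1, 1, 1, 1, 1, 0, 1, 1, 1, 0, 1, 1, 1], [1, 0, 1, 0, 1, 1, 0, 1, 1], 2)], [([0, 1, 1, 1], [1, 0], 2), ([0, 1, 1, 1, 0, 1, 1, 1, 1, 1, 1, 0, 1, 1, 1, 0, 1, 1, 1], [1, 0, 1, 0, 1, 1, 0, 1, 0], 1)]),
   ([([], [], 1), ([1, 1, 1, 1, 1, 1, 1, 1, 1, 0, 1, 1, 1, 1, 1, 1, 1, 1, 1, 0, 1, 1, 1, 0], [0, 1, 0, 1, 1, 1, 0, 1, 1, 1], 2)], [([0, 1, 1, 1, 1, 1, 1, 0, 1, 1, 1], [1, 0, 1, 1, 0], 2), ([0, 1, 1, 1, 1, 1, 1, 1, 1, 1, 0, 1, 1, 1, 0, 1, 1, 1, 1, 1, 1, 1, 1, 1, 0, 1, 1, 1], [1, 0, 1, 1, 1, 0, 1, 0, 1, 1, 1, 0], 1)])]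

theorem matsyl3_ok : CosetCert.ONP.groupOK matkey matsyl3 = true := by decide +kernel

theorem matfac3_ok : CosetCert.ONP.genOKAll matkey 3 matsyl3 matfac3 = true := by
  decide +kernel

/-- A Sylow 5-subgroup of mat. -/
def matsyl5 : List (List ℕ) :=
  [[],
   [1, 1, 0, 1, 0, 1, 1, 0, 1, 0, 1, 1, 0, 1, 0, 1, 1, 1, 0, 1, 1],
   [0, 1, 0, 1, 1, 0, 1, 0, 1, 1, 0, 1, 1, 1, 0, 1, 0],
   [1, 1, 1, 0, 1, 1, 1, 0, 1, 0, 1, 0, 1, 0, 1, 1, 1, 0],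
   [0, 1, 0, 1, 0, 1, 0, 1, 1, 0, 1, 1, 0, 1, 0, 1, 1, 0]]

/-- Generators as products of conjugates of its elements. -/
def matfac5 : List (List (List ℕ × List ℕ × ℕ) × List (List ℕ × List ℕ × ℕ)) :=
  [([], []),
   ([([1, 1, 1], [1], 1), ([1, 1, 1, 0, 1, 1, 1, 0, 1, 1, 1], [1, 0, 1, 0, 1], 3)], [([0, 1, 1, 1, 1, 1, 1], [1, 1, 0], 1), ([1, 1, 1, 1, 1, 1, 1, 1, 1, 0, 1, 1, 1, 1, 1, 1, 0, 1, 1, 1, 0, 1, 1, 1, 1, 1, 1, 1, 1, 1], [1, 1, 1, 0, 1, 0, 1, 1, 0, 1, 1, 1], 1)]),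
   ([([1, 1, 1], [1], 2), ([0, 1, 1, 1, 0, 1, 1, 1, 0, 1, 1, 1], [1, 0, 1, 0, 1, 0], 1)], [([0, 1, 1, 1, 1, 1, 1], [1, 1, 0], 3), ([1, 1, 1, 1, 1, 1, 1, 1, 1, 0, 1, 1, 1, 1, 1, 1, 0, 1, 1, 1, 0, 1, 1, 1, 1, 1, 1, 1, 1, 1], [1, 1, 1, 0, 1, 0, 1, 1, 0, 1, 1, 1], 3)]),
   ([([1, 1, 1], [1], 2), ([1, 1, 1, 0, 1, 1, 1, 0, 1, 1, 1], [1, 0, 1, 0, 1], 1)], [([0, 1, 1, 1, 1, 1, 1], [1, 1, 0], 2), ([1, 1, 1, 1, 1, 1, 1, 1, 1, 0, 1, 1, 1, 1, 1, 1, 0, 1, 1, 1, 0, 1, 1, 1, 1, 1, 1, 1, 1, 1], [1, 1, 1, 0, 1, 0, 1, 1, 0, 1, 1, 1], 2)]),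
   ([([1, 1, 1], [1], 1), ([0, 1, 1, 1, 0, 1, 1, 1, 0, 1, 1, 1], [1, 0, 1, 0, 1, 0], 3)], [([0, 1, 1, 1, 1, 1, 1], [1, 1, 0], 4), ([1, 1, 1, 1, 1, 1, 1, 1, 1, 0, 1, 1, 1, 1, 1, 1, 0, 1, 1, 1, 0, 1, 1, 1, 1, 1, 1, 1, 1, 1], [1, 1, 1, 0, 1, 0, 1, 1, 0, 1, 1, 1], 4)])]

theorem matsyl5_ok : CosetCert.ONP.groupOK matkey matsyl5 = true := by decide +kernel

theorem matfac5_ok : CosetCert.ONP.genOKAll matkey 5 matsyl5 matfac5 = true := by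
  decide +kernel

/-- A Sylow 11-subgroup of mat. -/
def matsyl11 : List (List ℕ) :=
  [[],
   [1, 1, 0, 1, 0, 1, 1, 0, 1, 0, 1, 0, 1, 1, 0, 1, 0, 1, 1, 0, 1],
   [1, 1, 0, 1, 1, 0, 1, 0, 1, 0, 1, 0, 1, 1, 0, 1],
   [1, 0, 1, 0, 1, 1, 0, 1, 1, 1, 0, 1, 1, 1, 0, 1, 1, 0, 1, 0, 1, 0],
   [1, 1, 0, 1, 0, 1, 0, 1, 1, 0, 1, 1, 0, 1, 0, 1, 1, 0],
   [0, 1, 0, 1, 0, 1, 1, 0, 1, 1, 1, 0, 1, 1, 1, 0, 1, 1, 1, 0],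
   [0, 1, 0, 1, 0, 1, 0, 1, 1, 0, 1, 1, 1, 0, 1, 1, 1, 0],
   [0, 1, 1, 0, 1, 0, 1, 1, 0, 1, 1, 0, 1, 0, 1, 1, 1, 0, 1, 1],
   [0, 1, 1, 0, 1, 1, 0, 1, 0, 1, 0, 1, 1, 0, 1, 0, 1, 1, 1],
   [1, 0, 1, 0, 1, 0, 1, 1, 0, 1, 1, 1, 0, 1, 1, 0, 1, 1, 1, 0, 1, 1, 1],
   [0, 1, 0, 1, 0, 1, 1, 0, 1, 0, 1, 1, 1, 0, 1, 1, 1, 0, 1, 1, 1, 0]]

/-- Generators as products of conjugates of its elements. -/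
def matfac11 : List (List (List ℕ × List ℕ × ℕ) × List (List ℕ × List ℕ × ℕ)) :=
  [([], []),
   ([([], [], 3), ([1, 1, 1, 1, 1, 1, 0, 1, 1, 1, 0, 1, 1, 1, 1, 1, 1, 1, 1, 1, 0, 1, 1, 1], [1, 0, 1, 1, 1, 0, 1, 0, 1, 1], 9)], [([], [], 5), ([0, 1, 1, 1, 1, 1, 1, 1, 1, 1, 0, 1, 1, 1, 0, 1, 1, 1, 1, 1, 1], [1, 1, 0, 1, 0, 1, 1, 1, 0], 2)]),
   ([([], [], 4), ([1, 1, 1, 0, 1, 1, 1, 1, 1, 1, 0, 1, 1, 1, 0, 1, 1, 1, 1, 1, 1, 1, 1, 1], [1, 1, 1, 0, 1, 0, 1, 1, 0, 1], 5)], [([], [], 5), ([1, 1, 1, 1, 1, 1, 0, 1, 1, 1, 0, 1, 1, 1, 1, 1, 1, 1, 1, 1], [1, 1, 1, 0, 1, 0, 1, 1], 7)]),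
   ([([], [], 1), ([1, 1, 1, 1, 1, 1, 0, 1, 1, 1, 0, 1, 1, 1, 1, 1, 1, 1, 1, 1, 0, 1, 1, 1], [1, 0, 1, 1, 1, 0, 1, 0, 1, 1], 3)], [([], [], 7), ([1, 1, 1, 1, 1, 1, 0, 1, 1, 1, 0, 1, 1, 1, 1, 1, 1, 1, 1, 1], [1, 1, 1, 0, 1, 0, 1, 1], 1)]),
   ([([], [], 2), ([1, 1, 1, 0, 1, 1, 1, 1, 1, 1, 0, 1, 1, 1, 0, 1, 1, 1, 1, 1, 1, 1, 1, 1], [1, 1, 1, 0, 1, 0, 1, 1, 0, 1], 8)], [([], [], 4), ([0, 1, 1, 1, 0, 1, 1, 1, 1, 1, 1, 1, 1, 1, 0, 1, 1, 1, 0], [0, 1, 0, 1, 1, 1, 0, 1, 0], 2)]),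
   ([([], [], 5), ([1, 1, 1, 1, 1, 1, 0, 1, 1, 1, 0, 1, 1, 1, 1, 1, 1, 1, 1, 1, 0, 1, 1, 1], [1, 0, 1, 1, 1, 0, 1, 0, 1, 1], 4)], [([], [], 1), ([0, 1, 1, 1, 0, 1, 1, 1, 1, 1, 1, 1, 1, 1, 0, 1, 1, 1, 0], [0, 1, 0, 1, 1, 1, 0, 1, 0], 6)]),
   ([([], [], 5), ([1, 1, 1, 1, 1, 1, 1, 1, 1, 0, 1, 1, 1, 1, 1, 1, 0, 1, 1, 1, 0, 1, 1, 1], [1, 0, 1, 0, 1, 1, 0, 1, 1, 1], 3)], [([], [], 9), ([1, 1, 1, 1, 1, 1, 0, 1, 1, 1, 0, 1, 1, 1, 1, 1, 1, 1, 1, 1], [1, 1, 1, 0, 1, 0, 1, 1], 6)]),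
   ([([], [], 2), ([1, 1, 1, 1, 1, 1, 0, 1, 1, 1, 0, 1, 1, 1, 1, 1, 1, 1, 1, 1, 0, 1, 1, 1], [1, 0, 1, 1, 1, 0, 1, 0, 1, 1], 6)], [([], [], 3), ([1, 1, 1, 1, 1, 1, 0, 1, 1, 1, 0, 1, 1, 1, 1, 1, 1, 1, 1, 1], [1, 1, 1, 0, 1, 0, 1, 1], 2)]),
   ([([], [], 1), ([1, 1, 1, 0, 1, 1, 1, 1, 1, 1, 0, 1, 1, 1, 0, 1, 1, 1, 1, 1, 1, 1, 1, 1], [1, 1, 1, 0, 1, 0, 1, 1, 0, 1], 4)], [([], [], 2), ([0, 1, 1, 1, 0, 1, 1, 1, 1, 1, 1, 1, 1, 1, 0, 1, 1, 1, 0], [0, 1, 0, 1, 1, 1, 0, 1, 0], 1)]),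
   ([([], [], 4), ([1, 1, 1, 1, 1, 1, 0, 1, 1, 1, 0, 1, 1, 1, 1, 1, 1, 1, 1, 1, 0, 1, 1, 1], [1, 0, 1, 1, 1, 0, 1, 0, 1, 1], 1)], [([], [], 3), ([0, 1, 1, 1, 0, 1, 1, 1, 1, 1, 1, 1, 1, 1, 0, 1, 1, 1, 0], [0, 1, 0, 1, 1, 1, 0, 1, 0], 7)]),
   ([([], [], 3), ([1, 1, 1, 0, 1, 1, 1, 1, 1, 1, 0, 1, 1, 1, 0, 1, 1, 1, 1, 1, 1, 1, 1, 1], [1, 1, 1, 0, 1, 0, 1, 1, 0, 1], 1)], [([], [], 1), ([1, 1, 1, 1, 1, 1, 0, 1, 1, 1, 0, 1, 1, 1, 1, 1, 1, 1, 1, 1], [1, 1, 1, 0, 1, 0, 1, 1], 8)])]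

theorem matsyl11_ok : CosetCert.ONP.groupOK matkey matsyl11 = true := by decide +kernel

theorem matfac11_ok : CosetCert.ONP.genOKAll matkey 11 matsyl11 matfac11 = true := by
  decide +kernel


end CfsgLib.Sporadic.CosetCert.ONSubData
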