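import Cfsg.Agent.Lib.Sporadic.ONSubData.matCoords
import Cfsg.Agent.Lib.Sporadic.ONSubData.matMaps
import Cfsg.Agent.Lib.Sporadic.ONTriples

/-!
# Closure of the nodes of mat

Machine-generated data and the kernel checks on it.
-/

set_option maxRecDepth 100000
set_option Elab.async false

namespace CfsgLib.Sporadic.CosetCert.ONSubData

theorem matstepX0_0 : CosetCert.ONP.stepT [ONData.fast2] matc0 matnX 7920 0 1000 = true := by decide +kernel
theorem matstepX0_1 : CosetCert.ONP.stepT [ONData.fast2] matc0 matnX 7920 1000 1000 = true := by decide +kernel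
theorem matstepX0_2 : CosetCert.ONP.stepT [ONData.fast2] matc0 matnX 7920 2000 1000 = true := by decide +kernel
theorem matstepX0_3 : CosetCert.ONP.stepT [ONData.fast2] matc0 matnX 7920 3000 1000 = true := by decide +kernel
theorem matstepX0_4 : CosetCert.ONP.stepT [ONData.fast2] matc0 matnX 7920 4000 1000 = true := by decide +kernel
theorem matstepX0_5 : CosetCert.ONP.stepT [ONData.fast2] matc0 matnX 7920 5000 1000 = true := by decide +kernel
theorem matstepX0_6 : CosetCert.ONP.stepT [ONData.fast2] matc0 matnX 7920 6000 1000 = true := by decide +kernel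
theorem matstepX0_7 : CosetCert.ONP.stepT [ONData.fast2] matc0 matnX 7920 7000 920 = true := by decide +kernel

end CfsgLib.Sporadic.CosetCert.ONSubData
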